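import Groth.Agent.ProjQX.Family

/-!
Immersions, checked on a family of opens of the target.
-/

universe u

open CategoryTheory CategoryTheory.Limits AlgebraicGeometry TopologicalSpace Opposite

noncomputable section

namespace Groth.Agent.ProjQX.Family

set_option backward.isDefEq.respectTransparency false
set_option backward.isDefEq.respectTransparency.types false

variable {A B : Scheme.{u}} (v : A ⟶ B)

/-- Glue a target-local property along opens covering an open that contains the image. -/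
lemma factor (Pr : MorphismProperty Scheme.{u}) [IsZariskiLocalAtTarget Pr] {ι : Type u} (O : ι → B.Opens)
    (h : ∀ a, Pr (v ∣_ O a)) (hcov : ⨆ a, v ⁻¹ᵁ O a = ⊤) :
    ∃ w : A ⟶ ((⨆ a, O a : B.Opens) : Scheme.{u}), w ≫ (⨆ a, O a : B.Opens).ι = v ∧ Pr w := by
  set W := ⨆ a, O a
  have hW : v ⁻¹ᵁ W = ⊤ := top_le_iff.mp (hcov.ge.trans (iSup_le fun a => v.preimage_mono (le_iSup O a)))
  have : IsIso (v ⁻¹ᵁ W).ι :=
    isIso_of_isOpenImmersion_of_opensRange_eq_top _ ((Scheme.Opens.opensRange_ι _).trans hW)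
  have hPr : Pr (v ∣_ W) := by
    refine (IsZariskiLocalAtTarget.iff_of_iSup_eq_top (P := Pr) (f := v ∣_ W) (fun a => W.ι ⁻¹ᵁ O a) ?_).mpr fun a => ?_
    · refine top_le_iff.mp fun x _ => ?_
      obtain ⟨a, ha⟩ := Opens.mem_iSup.mp (x.2 : x.1 ∈ ⨆ a, O a)
      exact Opens.mem_iSup.mpr ⟨a, ha⟩
    · refine (Pr.arrow_mk_iso_iff (morphismRestrictRestrict v W (W.ι ⁻¹ᵁ O a))).mpr ?_
      have e : W.ι ''ᵁ (W.ι ⁻¹ᵁ O a) = O a := by
        ext x
        exact ⟨fun ⟨y, hy, e⟩ => e ▸ hy, fun hx => ⟨⟨x, (le_iSup O a) hx⟩, hx, rfl⟩⟩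
      rw [e]
      exact h a
  refine ⟨inv (v ⁻¹ᵁ W).ι ≫ v ∣_ W, ?_, (Pr.cancel_left_of_respectsIso _ _).mpr hPr⟩
  rw [Category.assoc, morphismRestrict_ι, IsIso.inv_hom_id_assoc]

lemma restrict_isClosedImmersion [IsImmersion v] {O : B.Opens} (h : O ≤ v.coborderRange) :
    IsClosedImmersion (v ∣_ O) := by
  have : IsImmersion (v ∣_ O) := IsZariskiLocalAtTarget.restrict ‹_› O
  refine IsClosedImmersion.of_isPreimmersion _ ?_
  have e : Set.range (v ∣_ O) = (B.homOfLE h) ⁻¹' Set.range v.liftCoborder := by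
    ext x
    constructor
    · rintro ⟨a, rfl⟩
      refine ⟨a.1, v.coborderRange.ι.isOpenEmbedding.injective ?_⟩
      rw [← Scheme.Hom.comp_apply, Scheme.Hom.liftCoborder_ι, ← Scheme.Hom.comp_apply, Scheme.homOfLE_ι,
        ← Scheme.Hom.comp_apply (v ∣_ O), morphismRestrict_ι]
      rfl
    · rintro ⟨a, ha⟩
      have hva : v a = x.1 := by
        have := congrArg v.coborderRange.ι ha
        rw [← Scheme.Hom.comp_apply, Scheme.Hom.liftCoborder_ι, ← Scheme.Hom.comp_apply, Scheme.homOfLE_ι] at this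
        exact this
      refine ⟨⟨a, show v a ∈ O from hva ▸ x.2⟩, O.ι.isOpenEmbedding.injective ?_⟩
      rw [← Scheme.Hom.comp_apply, morphismRestrict_ι]
      exact hva
  rw [e]
  exact v.liftCoborder.isClosedEmbedding.isClosed_range.preimage (B.homOfLE h).continuous

lemma restrict_isIso [IsOpenImmersion v] {O : B.Opens} (h : O ≤ v.opensRange) : IsIso (v ∣_ O) := by
  refine isIso_of_isOpenImmersion_of_opensRange_eq_top _ (top_le_iff.mp fun x _ => ?_)
  obtain ⟨a, ha⟩ := h x.2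
  refine ⟨⟨a, show v a ∈ O from ha.symm ▸ x.2⟩, O.ι.isOpenEmbedding.injective ?_⟩
  rw [← Scheme.Hom.comp_apply, morphismRestrict_ι]
  exact ha

end Groth.Agent.ProjQX.Family
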