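import Groth.Agent.ProjQX.Core

/-!
`Proj(φ)` for a graded homomorphism of algebras over one base.
-/

universe u

open CategoryTheory CategoryTheory.Limits AlgebraicGeometry TopologicalSpace Opposite
open scoped HomogeneousIdeal

noncomputable section

namespace Groth.Agent.ProjQX

set_option backward.isDefEq.respectTransparency false
set_option backward.isDefEq.respectTransparency.types false

lemma exists_homogeneous {A σ : Type u} [CommRing A] [SetLike σ A] [AddSubgroupClass σ A] (𝒜 : ℕ → σ)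
    [GradedRing 𝒜] (z : Proj 𝒜) : ∃ (d : ℕ) (f : A), 0 < d ∧ f ∈ 𝒜 d ∧ z ∈ Proj.basicOpen 𝒜 f := by
  by_contra! h
  refine (z : ProjectiveSpectrum 𝒜).not_irrelevant_le ?_
  rw [← toIdeal_le_toIdeal_iff, HomogeneousIdeal.irrelevant_eq_span, Ideal.span_le]
  simp only [Set.iUnion_subset_iff]
  intro i hi a ha
  by_contra hna
  exact h i a hi ha hna

variable {Y PA PB : Scheme.{u}} {𝒜 ℬ : RelProj.QCGrAlg Y} {φ : 𝒜.toQCAlg ⟶ ℬ.toQCAlg}
  {hφ : RelProj.IsGradedHom φ}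

lemma gradedAt_ofHom (U : Y.Opens) (hU : IsAffineOpen U) (hle : U ≤ (𝟙 Y : Y ⟶ Y) ⁻¹ᵁ U)
    (a : 𝒜.presheaf.obj (op U)) :
    (RelProj.QGrHom.ofHom φ hφ).gradedAt U hU U hU hle a = RelProj.gradedHomAt φ hφ U hU a := by
  show (φ.hom.app (op U) ≫ ℬ.presheaf.map (homOfLE hle).op).hom a = (φ.hom.app (op U)).hom a
  rw [show ℬ.presheaf.map (homOfLE hle).op = 𝟙 _ from
    (congrArg (fun i => ℬ.presheaf.map i) (Subsingleton.elim (homOfLE hle).op (𝟙 _))).trans (ℬ.presheaf.map_id _),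
    ]
  rfl

lemma mem_domOpen_ofHom (U : Y.Opens) (hU : IsAffineOpen U) (hle : U ≤ (𝟙 Y : Y ⟶ Y) ⁻¹ᵁ U)
    (z : Proj (ℬ.deg U hU)) :
    z ∈ RelCone.domOpen ((RelProj.QGrHom.ofHom φ hφ).gradedAt U hU U hU hle) ↔
      z ∈ RelCone.domOpen (RelProj.gradedHomAt φ hφ U hU) := by
  simp only [RelCone.mem_domOpen, gradedAt_ofHom]

variable {pA : PA ⟶ Y} {chartA : ∀ (U : Y.Opens) (hU : IsAffineOpen U),
    (((pA ⁻¹ᵁ U : PA.Opens) : Scheme.{u}) ≅ Proj (𝒜.deg U hU))}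
  {pB : PB ⟶ Y} {chartB : ∀ (U : Y.Opens) (hU : IsAffineOpen U),
    (((pB ⁻¹ᵁ U : PB.Opens) : Scheme.{u}) ≅ Proj (ℬ.deg U hU))}
  (hA : RelProj.IsRelProj 𝒜 pA chartA) (hB : RelProj.IsRelProj ℬ pB chartB)

local notation "qφ" => RelProj.QGrHom.ofHom φ hφ

include hB in
/-- Over an affine open `U`, `G(φ)` is the open of definition of `φ(U)`. -/
theorem emb_mem_domQ_iff (U : Y.Opens) (hU : IsAffineOpen U) (z : Proj (ℬ.deg U hU)) :
    RelProj.emb pB chartB U hU z ∈ RelProj.domQ qφ pB chartB ↔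
      z ∈ RelCone.domOpen (RelProj.gradedHomAt φ hφ U hU) := by
  refine ⟨fun h => ?_, fun h => ?_⟩
  · obtain ⟨i, hi⟩ := exists_idx _ h
    rw [range_emb'] at hi
    obtain ⟨zi, hzi, hix⟩ := hi
    have hxU : pB (RelProj.emb pB chartB U hU z) ∈ U := (mem_opensRange_emb hU).mp ⟨z, rfl⟩
    have hxi : pB (RelProj.emb pB chartB U hU z) ∈ i.U' := (mem_opensRange_emb i.hU').mp ⟨zi, hix⟩
    obtain ⟨D, hD, hBU, hBi, -, hxD⟩ := exists_common (W := ⊤) hU i.hU' hxU hxi trivial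
    obtain ⟨w, hw⟩ : RelProj.emb pB chartB U hU z ∈ (RelProj.emb pB chartB D hD).opensRange :=
      (mem_opensRange_emb hD).mpr hxD
    have eU : Proj.map (ℬ.res hU hD hBU.le) (irr_res ℬ hU hD hBU) w = z :=
      (RelProj.emb pB chartB U hU).isOpenEmbedding.injective (by
        rw [← Scheme.Hom.comp_apply, map_emb hB hU hD hBU]; exact hw)
    have ei : Proj.map (ℬ.res i.hU' hD hBi.le) (irr_res ℬ i.hU' hD hBi) w = zi :=
      (RelProj.emb pB chartB i.U' i.hU').isOpenEmbedding.injective (by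
        rw [← Scheme.Hom.comp_apply, map_emb hB i.hU' hD hBi]; exact hw.trans hix.symm)
    have hDi : D ≤ i.U := hBi.le.trans i.hle
    have hwD : w ∈ RelCone.domOpen (RelProj.gradedHomAt φ hφ D hD) := by
      refine mem_domOpen_of_homogeneous _ i.hd ((𝒜.res i.hU hD hDi).map_mem i.hf) ?_
      show RelProj.gradedHomAt φ hφ D hD (𝒜.res i.hU hD hDi i.f) ∉ (w : ProjectiveSpectrum _).asHomogeneousIdeal
      rw [← gradedAt_ofHom D hD le_rfl, comm_res qφ i.hU hD i.hU' hD hDi hBi.le i.hle le_rfl]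
      subst ei
      exact hzi
    rw [← eU]
    exact mem_domOpen_map (RelProj.gradedHomAt φ hφ U hU) (RelProj.gradedHomAt φ hφ D hD)
      (𝒜.res hU hD hBU.le) (ℬ.res hU hD hBU.le) (irr_res 𝒜 hU hD hBU) (irr_res ℬ hU hD hBU)
      (fun a => ConcreteCategory.congr_hom (φ.hom.naturality (homOfLE hBU.le).op) a) hwD
  · exact Opens.mem_iSup.mpr ⟨⟨(⟨U, hU⟩, ⟨U, hU⟩), le_rfl⟩, z, (mem_domOpen_ofHom U hU le_rfl z).mpr h, rfl⟩

include hB in
theorem domQ_inf_preimage (U : Y.Opens) (hU : IsAffineOpen U) :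
    RelProj.domQ qφ pB chartB ⊓ pB ⁻¹ᵁ U =
      RelProj.emb pB chartB U hU ''ᵁ RelCone.domOpen (RelProj.gradedHomAt φ hφ U hU) := by
  apply le_antisymm
  · rintro x ⟨hx, hxU⟩
    obtain ⟨z, rfl⟩ := (mem_opensRange_emb (chart := chartB) hU).mpr hxU
    exact ⟨z, (emb_mem_domQ_iff hB U hU z).mp hx, rfl⟩
  · rintro _ ⟨z, hz, rfl⟩
    exact ⟨(emb_mem_domQ_iff hB U hU z).mpr hz, (mem_opensRange_emb (chart := chartB) hU).mp ⟨z, rfl⟩⟩

include hB in
theorem domQ_eq_top (h : ∀ (U : Y.Opens) (hU : IsAffineOpen U),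
    RelCone.domOpen (RelProj.gradedHomAt φ hφ U hU) = ⊤) : RelProj.domQ qφ pB chartB = ⊤ := by
  refine top_le_iff.mp fun x _ => ?_
  obtain ⟨_, ⟨U, hU, rfl⟩, hxU, -⟩ := Y.isBasis_affineOpens.exists_subset_of_mem_open
    (Set.mem_univ (pB x)) isOpen_univ
  obtain ⟨z, rfl⟩ := (mem_opensRange_emb (chart := chartB) hU).mpr hxU
  exact (emb_mem_domQ_iff hB U hU z).mpr ((h U hU).ge trivial)

/-- An index of a standard open of the target. -/
structure TIdx (𝒜 : RelProj.QCGrAlg Y) : Type u where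
  /-- the open -/
  U : Y.Opens
  hU : IsAffineOpen U
  /-- the degree -/
  d : ℕ
  hd : 0 < d
  /-- the element -/
  f : 𝒜.presheaf.obj (op U)
  hf : f ∈ 𝒜.deg U hU d

variable (pA chartA) in
/-- The cover of `Proj(𝒜)` by standard opens. -/
def targetCover : PA.OpenCover where
  I₀ := TIdx 𝒜
  X i := Spec (CommRingCat.of (HomogeneousLocalization.Away (𝒜.deg i.U i.hU) i.f))
  f i := Proj.awayι (𝒜.deg i.U i.hU) i.f i.hf i.hd ≫ RelProj.emb pA chartA i.U i.hU
  mem₀ := by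
    rw [Scheme.ofArrows_mem_precoverage_iff]
    refine ⟨fun x => ?_, fun i => inferInstance⟩
    obtain ⟨_, ⟨U, hU, rfl⟩, hxU, -⟩ := Y.isBasis_affineOpens.exists_subset_of_mem_open
      (Set.mem_univ (pA x)) isOpen_univ
    obtain ⟨z, rfl⟩ := (mem_opensRange_emb (chart := chartA) hU).mpr hxU
    obtain ⟨d, f, hd, hf, hfz⟩ := exists_homogeneous (𝒜.deg U hU) z
    obtain ⟨w, hw⟩ : z ∈ (Proj.awayι (𝒜.deg U hU) f hf hd).opensRange := by
      rw [Proj.opensRange_awayι]; exact hfz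
    exact ⟨⟨U, hU, d, hd, f, hf⟩, w, by rw [Scheme.Hom.comp_apply]; exact congrArg _ hw⟩

/-- The index of the chart over a standard open of the target. -/
def TIdx.up (t : TIdx 𝒜) : Idx (RelProj.QGrHom.ofHom φ hφ) :=
  ⟨t.U, t.hU, t.U, t.hU, le_rfl, t.d, t.hd, t.f, t.hf⟩

include hA hB in
/-- A property local at the target holds for `Proj(φ)` if it holds on the standard opens. -/
theorem map_of_charts {Pr : MorphismProperty Scheme.{u}} [IsZariskiLocalAtTarget Pr]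
    {v : (RelProj.domQ qφ pB chartB : Scheme.{u}) ⟶ PA}
    (hv : RelProj.IsProjQMapOn qφ pA chartA pB chartB (RelProj.domQ qφ pB chartB) v)
    (h : ∀ t : TIdx 𝒜, Pr (Spec.map (CommRingCat.ofHom
      (HomogeneousLocalization.Away.map (Idx.grad (TIdx.up (φ := φ) (hφ := hφ) t)) t.f)))) : Pr v := by
  refine IsZariskiLocalAtTarget.of_openCover (targetCover pA chartA) fun (t : TIdx 𝒜) => ?_
  have sq : IsPullback (Spec.map (CommRingCat.ofHom
      (HomogeneousLocalization.Away.map (Idx.grad (TIdx.up (φ := φ) (hφ := hφ) t)) t.f)))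
      (embDom chartB (TIdx.up (φ := φ) (hφ := hφ) t))
      (Proj.awayι (𝒜.deg t.U t.hU) t.f t.hf t.hd ≫ RelProj.emb pA chartA t.U t.hU) v := by
    refine IsOpenImmersion.isPullback _ _ _ _
      ((isProjQMapOn_domQ_iff qφ chartA chartB v).mp hv (TIdx.up t)) ?_
    rw [Scheme.Hom.opensRange_comp, Proj.opensRange_awayι]
    ext x
    have hcomp := congrArg (fun ψ : (RelProj.domQ qφ pB chartB : Scheme.{u}) ⟶ Y => ψ x)
      (comp_eq hA hB hv)
    change pA (v x) = pB x.1 at hcomp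
    -- both inclusions
    constructor
    · intro hx
      change v x ∈ RelProj.emb pA chartA t.U t.hU ''ᵁ Proj.basicOpen (𝒜.deg t.U t.hU) t.f at hx
      show x ∈ (embDom chartB (TIdx.up t)).opensRange
      have hxU : pB x.1 ∈ t.U := by
        obtain ⟨y, -, hy⟩ := hx
        exact (show pA (v x) = pB x.1 from hcomp) ▸ (mem_opensRange_emb t.hU).mp ⟨y, hy⟩
      obtain ⟨z, hz⟩ := (mem_opensRange_emb (chart := chartB) t.hU).mpr hxU
      have hzdom : z ∈ RelCone.domOpen (RelProj.gradedHomAt φ hφ t.U t.hU) :=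
        (emb_mem_domQ_iff hB t.U t.hU z).mp (by rw [hz]; exact x.2)
      have hzf := (mem_basicOpen_of_map hA hB hv (le_rfl : t.U ≤ (𝟙 Y : Y ⟶ Y) ⁻¹ᵁ t.U) t.hd t.hf x hz
        ((mem_domOpen_ofHom t.U t.hU le_rfl z).mpr hzdom)).mp hx
      obtain ⟨w, hw⟩ : x.1 ∈ (emb' qφ chartB (TIdx.up t)).opensRange := by
        rw [range_emb']; exact ⟨z, hzf, hz⟩
      refine ⟨w, (RelProj.domQ qφ pB chartB).ι.isOpenEmbedding.injective ?_⟩
      rw [← Scheme.Hom.comp_apply, embDom_ι]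
      exact hw
    · intro hx
      change x ∈ (embDom chartB (TIdx.up t)).opensRange at hx
      show v x ∈ RelProj.emb pA chartA t.U t.hU ''ᵁ Proj.basicOpen (𝒜.deg t.U t.hU) t.f
      obtain ⟨w, rfl⟩ := hx
      rw [← Scheme.Hom.comp_apply, (isProjQMapOn_domQ_iff qφ chartA chartB v).mp hv (TIdx.up t)]
      refine ⟨Proj.awayι (𝒜.deg t.U t.hU) t.f t.hf t.hd (Spec.map (CommRingCat.ofHom _) w), ?_, rfl⟩
      exact (Proj.opensRange_awayι (𝒜.deg t.U t.hU) t.f t.hf t.hd).le ⟨_, rfl⟩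
  change Pr (pullback.snd v (Proj.awayι (𝒜.deg t.U t.hU) t.f t.hf t.hd ≫ RelProj.emb pA chartA t.U t.hU))
  rw [← sq.flip.isoPullback_inv_snd]
  exact (MorphismProperty.cancel_left_of_respectsIso Pr _ _).mpr (h t)

include hA hB in
/-- The same for an everywhere defined `Proj(φ)`. -/
theorem qMap_of_charts {Pr : MorphismProperty Scheme.{u}} [IsZariskiLocalAtTarget Pr] {v : PB ⟶ PA}
    (hv : RelProj.IsProjQMap qφ pA chartA pB chartB v)
    (h : ∀ t : TIdx 𝒜, Pr (Spec.map (CommRingCat.ofHom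
      (HomogeneousLocalization.Away.map (Idx.grad (TIdx.up (φ := φ) (hφ := hφ) t)) t.f)))) : Pr v := by
  have hon : RelProj.IsProjQMapOn qφ pA chartA pB chartB (RelProj.domQ qφ pB chartB)
      ((RelProj.domQ qφ pB chartB).ι ≫ v) := by
    intro U hU U' hU' hle d hd f hf hW
    rw [← Category.assoc, IsOpenImmersion.lift_fac]
    exact hv.2 U hU U' hU' hle d hd f hf
  have hiso : IsIso (RelProj.domQ qφ pB chartB).ι :=
    isIso_of_isOpenImmersion_of_opensRange_eq_top _ ((Scheme.Opens.opensRange_ι _).trans hv.1)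
  exact (MorphismProperty.cancel_left_of_respectsIso Pr _ _).mp (map_of_charts hA hB hon h)

end Groth.Agent.ProjQX
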