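import Groth.Agent.ProjQX.Points
import Groth.Agent.ProjQX.SameBase
import Groth.Agent.RelTildeX.Props
import Groth.Agent.S12143

/-!
`Proj` of the symmetric algebra of an invertible module as the target of a `q`-morphism.
-/

universe u

open CategoryTheory CategoryTheory.Limits AlgebraicGeometry TopologicalSpace Opposite
open scoped HomogeneousIdeal

noncomputable section

namespace Groth.Agent.ProjQX

set_option backward.isDefEq.respectTransparency false
set_option backward.isDefEq.respectTransparency.types false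

variable {X PL : Scheme.{u}} {𝒮L : RelProj.QCGrAlg X} {pL : PL ⟶ X}
  {chartL : ∀ (U : X.Opens) (hU : IsAffineOpen U), (((pL ⁻¹ᵁ U : PL.Opens) : Scheme.{u}) ≅ Proj (𝒮L.deg U hU))}
  (hPL : RelProj.IsRelProj 𝒮L pL chartL)

include hPL in
/-- The structure map detects vanishing of functions. -/
lemma emb_mem_basicOpen_iff {V : X.Opens} (hV : IsAffineOpen V) (z : Proj (𝒮L.deg V hV)) (r : Γ(X, V)) :
    pL (RelProj.emb pL chartL V hV z) ∈ X.basicOpen r ↔
      (𝒮L.str.app (op V)).hom r ∉ (z : ProjectiveSpectrum (𝒮L.deg V hV)).asHomogeneousIdeal := by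
  have hB : IsBasic V (X.basicOpen r) := ⟨r, rfl⟩
  have hD := hV.basicOpen r
  constructor
  · intro h
    obtain ⟨w, hw⟩ := (mem_opensRange_emb (chart := chartL) hD).mpr h
    have e : Proj.map (𝒮L.res hV hD hB.le) (irr_res 𝒮L hV hD hB) w = z :=
      (RelProj.emb pL chartL V hV).isOpenEmbedding.injective (by
        rw [← Scheme.Hom.comp_apply, map_emb hPL hV hD hB]; exact hw)
    subst e
    show 𝒮L.res hV hD hB.le _ ∉ (w : ProjectiveSpectrum _).asHomogeneousIdeal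
    have hu : IsUnit (𝒮L.res hV hD hB.le ((𝒮L.str.app (op V)).hom r)) := by
      show IsUnit ((𝒮L.presheaf.map (homOfLE hB.le).op).hom _)
      rw [← CommRingCat.comp_apply, ← 𝒮L.str.naturality, CommRingCat.comp_apply]
      exact (X.toRingedSpace.isUnit_res_basicOpen r).map _
    exact fun hh => (w : ProjectiveSpectrum _).isPrime.ne_top (Ideal.eq_top_of_isUnit_mem _ hh hu)
  · intro h
    obtain ⟨d, f, hd, hf, hfz⟩ := exists_homogeneous (𝒮L.deg V hV) z
    obtain ⟨w, rfl⟩ : z ∈ (Proj.awayι (𝒮L.deg V hV) f hf hd).opensRange := by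
      rw [Proj.opensRange_awayι]; exact hfz
    show pL ((Proj.awayι (𝒮L.deg V hV) f hf hd ≫ RelProj.emb pL chartL V hV) w) ∈ _
    rw [← Scheme.Hom.comp_apply, Category.assoc, emb_over hPL, Proj.awayι_toSpecZero_assoc, ← Category.assoc]
    rw [Scheme.Hom.comp_apply]
    refine (SetLike.ext_iff.mp (IsAffineOpen.fromSpec_preimage_basicOpen hV r) _).mpr ?_
    rw [← Spec.map_comp]
    show HomogeneousLocalization.fromZeroRingHom (𝒮L.deg V hV) _ ((𝒮L.strZero V hV).hom r) ∉ w.asIdeal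
    intro hw
    have hm : (𝒮L.str.app (op V)).hom r * f ∈ 𝒮L.deg V hV d := by
      simpa using SetLike.mul_mem_graded (A := 𝒮L.deg V hV) (𝒮L.str_mem V hV r) hf
    have h2 : Proj.awayι (𝒮L.deg V hV) f hf hd w ∈
        Proj.basicOpen (𝒮L.deg V hV) ((𝒮L.str.app (op V)).hom r * f) :=
      fun hh => ((Proj.awayι (𝒮L.deg V hV) f hf hd w : ProjectiveSpectrum _).isPrime.mem_or_mem hh).elim h hfz
    have h3 := (SetLike.ext_iff.mp (Proj.awayι_preimage_basicOpen (𝒮L.deg V hV) hf hd hm hd) w).mp h2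
    refine h3 ?_
    have e : HomogeneousLocalization.Away.isLocalizationElem hf hm =
        HomogeneousLocalization.fromZeroRingHom (𝒮L.deg V hV) _ ((𝒮L.strZero V hV).hom r) ^ d := by
      apply HomogeneousLocalization.val_injective
      rw [HomogeneousLocalization.val_pow, HomogeneousLocalization.Away.isLocalizationElem,
        HomogeneousLocalization.Away.val_mk]
      change _ = Localization.mk ((𝒮L.str.app (op V)).hom r) _ ^ d
      rw [Localization.mk_pow, Localization.mk_eq_mk_iff, Localization.r_iff_exists]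
      refine ⟨1, ?_⟩
      simp only [OneMemClass.coe_one, one_mul, SubmonoidClass.coe_pow, one_pow, mul_pow]
      show (1 : 𝒮L.presheaf.obj (op V)) ^ d * _ = _
      rw [one_pow, one_mul, mul_comm]
    rw [e]
    exact Ideal.pow_mem_of_mem _ hw d hd

variable {L : X.Modules} {j : L ⟶ 𝒮L.toModule}

/-- An element whose multiples fill a positive degree misses every point. -/
lemma notMem_of_span (hLq : Coh.IsQCoh L) (hj : RelProj.IsGrSymAlg L 𝒮L j) {V : X.Opens} (hV : IsAffineOpen V)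
    {n : ℕ} {a : 𝒮L.presheaf.obj (op V)}
    (h : ((𝒮L.deg V hV n : AddSubgroup (𝒮L.presheaf.obj (op V))) : Set (𝒮L.presheaf.obj (op V))) ⊆
      (Ideal.span {a} : Set (𝒮L.presheaf.obj (op V)))) (z : Proj (𝒮L.deg V hV)) :
    a ∉ (z : ProjectiveSpectrum (𝒮L.deg V hV)).asHomogeneousIdeal := by
  intro ha
  let P : Ideal (𝒮L.presheaf.obj (op V)) := (z : ProjectiveSpectrum (𝒮L.deg V hV)).asHomogeneousIdeal.toIdeal
  have h1 : ∀ t ∈ 𝒮L.deg V hV 1, t ∈ P := fun t ht => by
    have hp : t ^ n ∈ 𝒮L.deg V hV n := by simpa using SetLike.pow_mem_graded n ht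
    exact (z : ProjectiveSpectrum (𝒮L.deg V hV)).isPrime.mem_of_pow_mem n
      ((Ideal.span_singleton_le_iff_mem P).mpr ha (h hp))
  have hle : ∀ b ∈ (𝒮L.deg V hV)₊.toIdeal, b ∈ P := by
    intro b hb
    rw [RelTildeX.irrelevant_eq_span_deg_one (SymAlgX.isGenDegOne hLq hj) V hV] at hb
    exact Ideal.span_le.mpr h1 hb
  exact (z : ProjectiveSpectrum (𝒮L.deg V hV)).not_irrelevant_le hle

include hPL in
/-- Where a homogeneous element does not vanish, its multiples fill its degree on a smaller open. -/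
lemma exists_span (hL : PicF.IsInvertible L) (hLq : Coh.IsQCoh L) (hj : RelProj.IsGrSymAlg L 𝒮L j)
    {V : X.Opens} (hV : IsAffineOpen V) {n : ℕ} {a : 𝒮L.presheaf.obj (op V)} (ha : a ∈ 𝒮L.deg V hV n)
    (z : Proj (𝒮L.deg V hV)) (haz : a ∉ (z : ProjectiveSpectrum (𝒮L.deg V hV)).asHomogeneousIdeal) :
    ∃ (D : X.Opens) (hD : IsAffineOpen D) (hDV : D ≤ V), pL (RelProj.emb pL chartL V hV z) ∈ D ∧
      ((𝒮L.deg D hD n : AddSubgroup (𝒮L.presheaf.obj (op D))) : Set (𝒮L.presheaf.obj (op D))) ⊆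
        (Ideal.span {𝒮L.res hV hD hDV a} : Set (𝒮L.presheaf.obj (op D))) := by
  set x := RelProj.emb pL chartL V hV z
  have hxV : pL x ∈ V := (mem_opensRange_emb hV).mp ⟨z, rfl⟩
  obtain ⟨U₀, hxU₀, t, ht⟩ := InvEnd.exists_frame_inv hL (pL x)
  obtain ⟨V₀, hV₀, hxV₀, hV₀U⟩ := exists_isAffineOpen_mem_and_subset hxU₀
  obtain ⟨D₀, hD₀, hBV, -, hD₀U, hxD₀⟩ := exists_common (W := U₀) hV hV₀ hxV hxV₀ hxU₀
  obtain ⟨r, hr⟩ := S12143.mem_deg_eq hLq hj hD₀ _ (ht D₀ hD₀U) ((𝒮L.res hV hD₀ hBV.le).map_mem ha)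
  obtain ⟨w, hw⟩ := (mem_opensRange_emb (chart := chartL) hD₀).mpr hxD₀
  have e : Proj.map (𝒮L.res hV hD₀ hBV.le) (irr_res 𝒮L hV hD₀ hBV) w = z :=
    (RelProj.emb pL chartL V hV).isOpenEmbedding.injective (by
      rw [← Scheme.Hom.comp_apply, map_emb hPL hV hD₀ hBV]; exact hw)
  have hrw : (𝒮L.str.app (op D₀)).hom r ∉ (w : ProjectiveSpectrum (𝒮L.deg D₀ hD₀)).asHomogeneousIdeal := by
    intro hh
    subst e
    refine haz ?_
    show 𝒮L.res hV hD₀ hBV.le a ∈ (w : ProjectiveSpectrum (𝒮L.deg D₀ hD₀)).asHomogeneousIdeal.toIdeal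
    exact hr ▸ Ideal.mul_mem_right _ _ hh
  have hxD : pL x ∈ X.basicOpen r := by
    have := (emb_mem_basicOpen_iff hPL hD₀ w r).mpr hrw
    rwa [hw] at this
  set D := X.basicOpen r
  have hD : IsAffineOpen D := hD₀.basicOpen r
  have hDD₀ : D ≤ D₀ := X.basicOpen_le r
  refine ⟨D, hD, hDD₀.trans hBV.le, hxD, fun b hb => ?_⟩
  obtain ⟨s, rfl⟩ := S12143.mem_deg_eq hLq hj hD _ (ht D (hDD₀.trans hD₀U)) hb
  have hres : 𝒮L.res hV hD (hDD₀.trans hBV.le) a =
      (𝒮L.str.app (op D)).hom (X.presheaf.map (homOfLE hDD₀).op r) *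
        SymAlgX.jv 𝒮L.toQCAlg j D (L.presheaf.map (homOfLE (hDD₀.trans hD₀U)).op t) ^ n := by
    have h1 : 𝒮L.res hV hD (hDD₀.trans hBV.le) a = QCoh.rB 𝒮L.toQCAlg hDD₀ (𝒮L.res hV hD₀ hBV.le a) := by
      show (𝒮L.presheaf.map _).hom a = (𝒮L.presheaf.map _).hom ((𝒮L.presheaf.map _).hom a)
      rw [← CommRingCat.comp_apply, ← 𝒮L.presheaf.map_comp]
      rfl
    rw [h1]
    refine (congrArg _ hr).trans ?_
    rw [map_mul, map_pow, QCoh.rB_str, SymAlgX.rB_jv]
    congr 3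
    show L.presheaf.map (homOfLE hDD₀).op (L.presheaf.map (homOfLE hD₀U).op t) = _
    rw [← ConcreteCategory.comp_apply, ← L.presheaf.map_comp]
    rfl
  obtain ⟨r', hr'⟩ : ∃ r' : Γ(X, D), r' * X.presheaf.map (homOfLE hDD₀).op r = 1 :=
    (X.toRingedSpace.isUnit_res_basicOpen r).exists_left_inv
  rw [SetLike.mem_coe, Ideal.mem_span_singleton]
  refine ⟨(𝒮L.str.app (op D)).hom (s * r'), ?_⟩
  rw [hres, map_mul]
  have h2 : (𝒮L.str.app (op D)).hom r' * (𝒮L.str.app (op D)).hom (X.presheaf.map (homOfLE hDD₀).op r) = 1 := by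
    rw [← map_mul]
    exact (congrArg _ hr').trans (map_one _)
  linear_combination ((𝒮L.str.app (op D)).hom s * (SymAlgX.jv 𝒮L.toQCAlg j D
    (L.presheaf.map (homOfLE (hDD₀.trans hD₀U)).op t) ^ n)) * h2.symm

end Groth.Agent.ProjQX
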