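import Groth.Agent.S12144
import Groth.Agent.S12143
import Groth.Agent.ProjQX.LineBundle
import Mathlib.AlgebraicGeometry.Morphisms.IsIso
import Mathlib.AlgebraicGeometry.Morphisms.Immersion

/-!
`r_{L,ψ}` over the standard opens `D_+(s)`: sections and immersion criteria.
-/

universe u

open CategoryTheory CategoryTheory.Limits AlgebraicGeometry TopologicalSpace Opposite
open scoped HomogeneousIdeal

noncomputable section

namespace Groth.Agent.ProjQX

set_option backward.isDefEq.respectTransparency false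
set_option backward.isDefEq.respectTransparency.types false

lemma surjective_of_isClosedImmersion {R S : CommRingCat.{u}} (φ : R ⟶ S) [IsClosedImmersion (Spec.map φ)] :
    Function.Surjective φ.hom := by
  have h := (IsClosedImmersion.isAffine_surjective_of_isAffine (Spec.map φ)).2
  have e : φ = (Scheme.ΓSpecIso R).inv ≫ (Spec.map φ).appTop ≫ (Scheme.ΓSpecIso S).hom := by
    rw [Scheme.ΓSpecIso_naturality, Iso.inv_hom_id_assoc]
  intro y
  obtain ⟨x, hx⟩ := (ConcreteCategory.bijective_of_isIso (Scheme.ΓSpecIso S).hom).2 y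
  obtain ⟨w, rfl⟩ := h x
  refine ⟨(Scheme.ΓSpecIso R).hom w, ?_⟩
  rw [e, ← hx]
  simp only [CommRingCat.comp_apply, Iso.hom_inv_id_apply]

namespace Family

variable {Y X P PL : Scheme.{u}} {q : X ⟶ Y} {L : X.Modules} (hL : PicF.IsInvertible L) (hLq : Coh.IsQCoh L)
  {𝒮 : RelProj.QCGrAlg Y} {𝒮L : RelProj.QCGrAlg X} {j : L ⟶ 𝒮L.toModule} (hj : RelProj.IsGrSymAlg L 𝒮L j)
  {u : RelProj.QGrHom q 𝒮 𝒮L}
  {p : P ⟶ Y} {chart : ∀ (U : Y.Opens) (hU : IsAffineOpen U), (((p ⁻¹ᵁ U : P.Opens) : Scheme.{u}) ≅ Proj (𝒮.deg U hU))}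
  (hP : RelProj.IsRelProj 𝒮 p chart)
  {pL : PL ⟶ X} {chartL : ∀ (U : X.Opens) (hU : IsAffineOpen U), (((pL ⁻¹ᵁ U : PL.Opens) : Scheme.{u}) ≅ Proj (𝒮L.deg U hU))}
  (hPL : RelProj.IsRelProj 𝒮L pL chartL)
  {r : ((RelProj.domQ u pL chartL : PL.Opens) : Scheme.{u}) ⟶ P}
  (hr : RelProj.IsProjQMapOn u p chart pL chartL (RelProj.domQ u pL chartL) r)
  (hY : IsAffineOpen (⊤ : Y.Opens))

variable (q) in
lemma le_pre (V : X.Opens) : V ≤ q ⁻¹ᵁ (⊤ : Y.Opens) := le_top.trans (Scheme.Hom.preimage_top q).ge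

variable (chart) in
/-- The standard open of `s`. -/
abbrev O (s : 𝒮.presheaf.obj (op ⊤)) : P.Opens :=
  RelProj.emb p chart ⊤ hY ''ᵁ Proj.basicOpen (𝒮.deg ⊤ hY) s

variable (u) in
/-- The open where `ψ(s)` does not vanish. -/
abbrev XT (n : ℕ) (s : 𝒮.presheaf.obj (op ⊤)) : X.Opens :=
  ⨆ V : {V : X.affineOpens //
    ((𝒮L.deg V.1 V.2 n : AddSubgroup (𝒮L.presheaf.obj (op (V.1 : X.Opens)))) : Set (𝒮L.presheaf.obj (op (V.1 : X.Opens)))) ⊆
      (Ideal.span {(u.appLE ⊤ (V.1 : X.Opens) (le_pre q _)).hom s} : Set (𝒮L.presheaf.obj (op (V.1 : X.Opens))))},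
    (V.1.1 : X.Opens)

variable {n : ℕ} {s : 𝒮.presheaf.obj (op ⊤)} (hn : 0 < n) (hs : s ∈ 𝒮.deg ⊤ hY n)

include hL hLq hj hPL in
lemma isIso_pL : IsIso pL := Groth.Agent.S12143.result L hL hLq 𝒮L j hj pL chartL hPL

include hL hLq hj hP hPL hr hn hs in
lemma preimage_O :
    (RelProj.domQ u pL chartL).ι ''ᵁ (r ⁻¹ᵁ O chart hY s) = pL ⁻¹ᵁ XT u n s :=
  Groth.Agent.S12144.result q L hL hLq 𝒮 𝒮L j hj u p chart hP pL chartL hPL r hr hY n hn s hs

include hL hLq hj hP hPL hr hn hs in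
lemma preimage_O' (htop : RelProj.domQ u pL chartL = ⊤) [IsIso (RelProj.domQ u pL chartL).ι] :
    (inv (RelProj.domQ u pL chartL).ι ≫ r) ⁻¹ᵁ O chart hY s = pL ⁻¹ᵁ XT u n s := by
  rw [← preimage_O hL hLq hj hP hPL hr hY hn hs]
  ext x
  constructor
  · intro hx
    refine ⟨inv (RelProj.domQ u pL chartL).ι x, hx, ?_⟩
    exact congrArg (fun k : PL ⟶ PL => k x) (IsIso.inv_hom_id (RelProj.domQ u pL chartL).ι)
  · rintro ⟨y, hy, rfl⟩
    show r (inv (RelProj.domQ u pL chartL).ι ((RelProj.domQ u pL chartL).ι y)) ∈ O chart hY s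
    rw [← Scheme.Hom.comp_apply (RelProj.domQ u pL chartL).ι, IsIso.hom_inv_id]
    exact hy

/-- The structure map of the standard chart over `V`. -/
abbrev σ (V : X.Opens) (hV : IsAffineOpen V) (s : 𝒮.presheaf.obj (op ⊤)) :
    Γ(X, V) ⟶ CommRingCat.of (HomogeneousLocalization.Away (𝒮L.deg V hV) (u.gradedAt ⊤ hY V hV (le_pre q V) s)) :=
  𝒮L.strZero V hV ≫ CommRingCat.ofHom
    (HomogeneousLocalization.fromZeroRingHom (𝒮L.deg V hV) (Submonoid.powers (u.gradedAt ⊤ hY V hV (le_pre q V) s)))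

/-- The map of the standard chart. -/
abbrev mp (V : X.Opens) (hV : IsAffineOpen V) (s : 𝒮.presheaf.obj (op ⊤)) :
    CommRingCat.of (HomogeneousLocalization.Away (𝒮.deg ⊤ hY) s) ⟶
      CommRingCat.of (HomogeneousLocalization.Away (𝒮L.deg V hV) (u.gradedAt ⊤ hY V hV (le_pre q V) s)) :=
  CommRingCat.ofHom (HomogeneousLocalization.Away.map (u.gradedAt ⊤ hY V hV (le_pre q V)) s)

variable {V : X.Opens} (hV : IsAffineOpen V) (hVT : XT u n s = V)

include hL hLq hj hP hPL hr hn hs hVT in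
lemma basicOpen_eq_top : Proj.basicOpen (𝒮L.deg V hV) (u.gradedAt ⊤ hY V hV (le_pre q V) s) = ⊤ := by
  refine top_le_iff.mp fun z _ => ?_
  have hzV : RelProj.emb pL chartL V hV z ∈ pL ⁻¹ᵁ XT u n s := by
    show pL _ ∈ XT u n s
    rw [hVT]
    exact (mem_opensRange_emb hV).mp ⟨z, rfl⟩
  rw [← preimage_O hL hLq hj hP hPL hr hY hn hs] at hzV
  obtain ⟨x, hx, hxz⟩ := hzV
  exact (map_mem_iff hP hPL hr (le_pre q V) hn hs x hxz.symm).mp hx

include hL hLq hj hP hPL hr hn hs hVT in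
lemma σ_bijective : Function.Bijective (σ (u := u) hY V hV s).hom := by
  let f := u.gradedAt ⊤ hY V hV (le_pre q V) s
  have hf : f ∈ 𝒮L.deg V hV n := (u.gradedAt ⊤ hY V hV (le_pre q V)).map_mem hs
  have : IsIso (Proj.awayι (𝒮L.deg V hV) f hf hn) :=
    isIso_of_isOpenImmersion_of_opensRange_eq_top _ ((Proj.opensRange_awayι _ _ _ hn).trans
      (basicOpen_eq_top hL hLq hj hP hPL hr hY hn hs hV hVT))
  have := isIso_pL hL hLq hj hPL
  let a : Spec (CommRingCat.of (HomogeneousLocalization.Away (𝒮L.deg V hV) f)) ⟶ X :=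
    Proj.awayι (𝒮L.deg V hV) f hf hn ≫ RelProj.emb pL chartL V hV ≫ pL
  have ha : a = Spec.map (σ hY V hV s) ≫ hV.fromSpec := by
    simp only [a]
    rw [emb_over hPL V hV, Proj.awayι_toSpecZero_assoc, Spec.map_comp, Category.assoc]
  have harange : Set.range a = Set.range hV.fromSpec := by
    rw [hV.range_fromSpec]
    ext x
    constructor
    · rintro ⟨w, rfl⟩
      rw [ha]
      exact hV.range_fromSpec.le ⟨Spec.map (σ hY V hV s) w, rfl⟩
    · intro hx
      obtain ⟨y, rfl⟩ := pL.homeomorph.surjective x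
      obtain ⟨z, rfl⟩ := (mem_opensRange_emb (chart := chartL) hV).mpr hx
      obtain ⟨w, rfl⟩ := (Proj.awayι (𝒮L.deg V hV) f hf hn).surjective z
      exact ⟨w, rfl⟩
  refine (isIso_SpecMap_iff (f := σ hY V hV s)).mp ?_
  have : Spec.map (σ hY V hV s) = (IsOpenImmersion.isoOfRangeEq a hV.fromSpec harange).hom := by
    rw [← cancel_mono hV.fromSpec, IsOpenImmersion.isoOfRangeEq_hom_fac, ha]
  rw [this]
  infer_instance

lemma val_σ (t : Γ(X, V)) : ((σ (u := u) hY V hV s).hom t).val =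
    Localization.mk ((𝒮L.str.app (op V)).hom t) (1 : Submonoid.powers (u.gradedAt ⊤ hY V hV (le_pre q V) s)) := rfl

include hL hLq hj hP hPL hr hn hs hVT in
/-- Surjectivity of the map of charts is condition (iii). -/
lemma mp_surjective_iff :
    Function.Surjective (mp (u := u) hY V hV s).hom ↔
      ∀ t : X.presheaf.obj (op V), ∃ (m : ℕ) (_ : 0 < m) (s' : 𝒮.presheaf.obj (op ⊤)) (_ : s' ∈ 𝒮.deg ⊤ hY (m * n)),
        (𝒮L.str.app (op V)).hom t * ((u.appLE ⊤ V (le_pre q V)).hom s) ^ m = (u.appLE ⊤ V (le_pre q V)).hom s' := by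
  let φ := u.gradedAt ⊤ hY V hV (le_pre q V)
  constructor
  · intro h t
    obtain ⟨w, hw⟩ := h ((σ hY V hV s).hom t)
    obtain ⟨m, a, ha, rfl⟩ := w.mk_surjective (𝒮.deg ⊤ hY) hs
    have hw' := congrArg HomogeneousLocalization.val hw
    change (HomogeneousLocalization.Away.map φ s (HomogeneousLocalization.Away.mk _ hs m a ha)).val = _ at hw'
    rw [HomogeneousLocalization.Away.map_mk, HomogeneousLocalization.Away.val_mk, val_σ,
      Localization.mk_eq_mk_iff, Localization.r_iff_exists] at hw'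
    obtain ⟨⟨_, k, rfl⟩, hk⟩ := hw'
    refine ⟨k + 1 + m, by omega, s ^ (k + 1) * a, ?_, ?_⟩
    · have := SetLike.mul_mem_graded (A := 𝒮.deg ⊤ hY) (SetLike.pow_mem_graded (k + 1) hs) ha
      simpa [← add_mul] using this
    · simp only [OneMemClass.coe_one, one_mul] at hk
      show (𝒮L.str.app (op V)).hom t * φ s ^ (k + 1 + m) = φ (s ^ (k + 1) * a)
      rw [map_mul, map_pow]
      linear_combination (φ s) * hk.symm
  · intro h w
    obtain ⟨t, rfl⟩ := (σ_bijective hL hLq hj hP hPL hr hY hn hs hV hVT).2 w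
    obtain ⟨m, -, a, ha, he⟩ := h t
    refine ⟨HomogeneousLocalization.Away.mk (𝒮.deg ⊤ hY) hs m a (by simpa using ha), HomogeneousLocalization.val_injective _ ?_⟩
    show (HomogeneousLocalization.Away.map φ s (HomogeneousLocalization.Away.mk _ hs m a _)).val = _
    rw [HomogeneousLocalization.Away.map_mk, HomogeneousLocalization.Away.val_mk, val_σ,
      Localization.mk_eq_mk_iff, Localization.r_iff_exists]
    refine ⟨1, ?_⟩
    simp only [OneMemClass.coe_one, one_mul]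
    show φ a = φ s ^ m * (𝒮L.str.app (op V)).hom t
    rw [mul_comm]
    exact he.symm

include hs in
/-- Injectivity of the map of charts is condition (iv). -/
lemma mp_injective_iff :
    Function.Injective (mp (u := u) hY V hV s).hom ↔
      ∀ (m : ℕ), 0 < m → ∀ s' ∈ 𝒮.deg ⊤ hY (m * n),
        (u.appLE ⊤ V (le_pre q V)).hom s' = 0 → ∃ (k : ℕ), 0 < k ∧ s ^ k * s' = 0 := by
  let φ := u.gradedAt ⊤ hY V hV (le_pre q V)
  constructor
  · intro h m _ a ha h0
    have hz : (mp (u := u) hY V hV s).hom (HomogeneousLocalization.Away.mk (𝒮.deg ⊤ hY) hs m a (by simpa using ha)) = 0 := by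
      apply HomogeneousLocalization.val_injective
      show (HomogeneousLocalization.Away.map φ s (HomogeneousLocalization.Away.mk _ hs m a _)).val = _
      rw [HomogeneousLocalization.Away.map_mk, HomogeneousLocalization.Away.val_mk, HomogeneousLocalization.val_zero]
      simp only [show φ a = 0 from h0, Localization.mk_zero]
    have h1 := congrArg HomogeneousLocalization.val (h (hz.trans (map_zero _).symm))
    rw [HomogeneousLocalization.Away.val_mk, HomogeneousLocalization.val_zero, Localization.mk_eq_mk',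
      IsLocalization.mk'_eq_zero_iff] at h1
    obtain ⟨⟨_, k, rfl⟩, hk⟩ := h1
    exact ⟨k + 1, k.succ_pos, by rw [pow_succ', mul_assoc, hk, mul_zero]⟩
  · intro h
    refine (injective_iff_map_eq_zero _).mpr fun w hw => ?_
    obtain ⟨m, a, ha, rfl⟩ := w.mk_surjective (𝒮.deg ⊤ hY) hs
    have hw' := congrArg HomogeneousLocalization.val hw
    change (HomogeneousLocalization.Away.map φ s (HomogeneousLocalization.Away.mk _ hs m a ha)).val = _ at hw'
    rw [HomogeneousLocalization.Away.map_mk, HomogeneousLocalization.Away.val_mk, HomogeneousLocalization.val_zero,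
      Localization.mk_eq_mk', IsLocalization.mk'_eq_zero_iff] at hw'
    obtain ⟨⟨_, k, rfl⟩, hk⟩ := hw'
    obtain ⟨l, -, hl⟩ := h (k + 1 + m) (by omega) (s ^ (k + 1) * a)
      (by simpa [← add_mul] using SetLike.mul_mem_graded (A := 𝒮.deg ⊤ hY) (SetLike.pow_mem_graded (k + 1) hs) ha)
      (by
        show φ (s ^ (k + 1) * a) = 0
        rw [map_mul, map_pow, pow_succ', mul_assoc, hk, mul_zero])
    apply HomogeneousLocalization.val_injective
    rw [HomogeneousLocalization.Away.val_mk, HomogeneousLocalization.val_zero, Localization.mk_eq_mk',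
      IsLocalization.mk'_eq_zero_iff]
    exact ⟨⟨s ^ (l + (k + 1)), l + (k + 1), rfl⟩, by show s ^ (l + (k + 1)) * a = 0; rw [pow_add, mul_assoc]; exact hl⟩

include hL hLq hj hP hPL hr hn hs hVT in
/-- Over `D_+(s)` the morphism is `Spec` of the map of charts. -/
lemma restrict_iff (htop : RelProj.domQ u pL chartL = ⊤) [IsIso (RelProj.domQ u pL chartL).ι]
    (Pr : MorphismProperty Scheme.{u}) [Pr.RespectsIso] :
    Pr ((inv (RelProj.domQ u pL chartL).ι ≫ r) ∣_ O chart hY s) ↔ Pr (Spec.map (mp (u := u) hY V hV s)) := by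
  set v := inv (RelProj.domQ u pL chartL).ι ≫ r
  let i : Idx u := ⟨⊤, hY, V, hV, le_pre q V, n, hn, s, hs⟩
  have htb := basicOpen_eq_top hL hLq hj hP hPL hr hY hn hs hV hVT
  have hsrc : Set.range (emb' u chartL i) = Set.range (v ⁻¹ᵁ O chart hY s).ι := by
    rw [Scheme.Opens.range_ι, preimage_O' hL hLq hj hP hPL hr hY hn hs htop, hVT]
    show ((emb' u chartL i).opensRange : Set PL) = _
    rw [range_emb']
    ext x
    constructor
    · rintro ⟨z, -, rfl⟩
      exact (mem_opensRange_emb hV).mp ⟨z, rfl⟩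
    · intro hx
      obtain ⟨z, rfl⟩ := (mem_opensRange_emb (chart := chartL) hV).mpr hx
      exact ⟨z, htb.ge trivial, rfl⟩
  let b := Proj.awayι (𝒮.deg ⊤ hY) s hs hn ≫ RelProj.emb p chart ⊤ hY
  have htgt : Set.range b = Set.range (O chart hY s).ι := by
    rw [Scheme.Opens.range_ι]
    refine (congrArg (fun W : P.Opens => (W : Set P)) ?_ : (b.opensRange : Set P) = _)
    rw [Scheme.Hom.opensRange_comp, Proj.opensRange_awayι]
  let e₁ := IsOpenImmersion.isoOfRangeEq (emb' u chartL i) (v ⁻¹ᵁ O chart hY s).ι hsrc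
  let e₂ := IsOpenImmersion.isoOfRangeEq b (O chart hY s).ι htgt
  have hfac : emb' u chartL i ≫ v = Spec.map (mp (u := u) hY V hV s) ≫ b := by
    simp only [v]
    rw [← embDom_ι i, Category.assoc, IsIso.hom_inv_id_assoc, (isProjQMapOn_domQ_iff u chart chartL r).mp hr i]
    rfl
  have h : e₁.hom ≫ v ∣_ O chart hY s = Spec.map (mp (u := u) hY V hV s) ≫ e₂.hom := by
    rw [← cancel_mono (O chart hY s).ι, Category.assoc, morphismRestrict_ι, Category.assoc,
      IsOpenImmersion.isoOfRangeEq_hom_fac, IsOpenImmersion.isoOfRangeEq_hom_fac_assoc, hfac]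
  rw [← Pr.cancel_left_of_respectsIso e₁.hom (v ∣_ O chart hY s), h, Pr.cancel_right_of_respectsIso]

include hL hLq hj hP hPL hr hn hs in
lemma isAffineOpen_XT_iff (htop : RelProj.domQ u pL chartL = ⊤) [IsIso (RelProj.domQ u pL chartL).ι] :
    IsAffineOpen ((inv (RelProj.domQ u pL chartL).ι ≫ r) ⁻¹ᵁ O chart hY s) ↔ IsAffineOpen (XT u n s) := by
  have := isIso_pL hL hLq hj hPL
  rw [preimage_O' hL hLq hj hP hPL hr hY hn hs htop]
  refine ⟨fun h => ?_, fun h => h.preimage pL⟩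
  have h' : pL ''ᵁ (pL ⁻¹ᵁ XT u n s) = XT u n s :=
    by
      ext x
      exact ⟨fun ⟨y, hy, e⟩ => e ▸ hy, fun hx => let ⟨y, e⟩ := pL.surjective x; ⟨y, (show pL y ∈ XT u n s from e.symm ▸ hx), e⟩⟩
  rw [← h']
  exact (Scheme.Hom.isAffineOpen_iff_of_isOpenImmersion pL).mpr h

include hL hLq hj hP hPL hr in
/-- Everywhere defined as soon as the `XT` cover `X`. -/
lemma domQ_eq_top {ι : Type u} {N : ι → ℕ} {S : ι → 𝒮.presheaf.obj (op ⊤)}
    (hS : ∀ a, 0 < N a ∧ S a ∈ 𝒮.deg ⊤ hY (N a)) (hcov : ⨆ a, XT u (N a) (S a) = ⊤) :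
    RelProj.domQ u pL chartL = ⊤ := by
  refine top_le_iff.mp fun y _ => ?_
  obtain ⟨a, ha⟩ := Opens.mem_iSup.mp (hcov.ge (trivial : pL y ∈ (⊤ : X.Opens)))
  obtain ⟨x, -, rfl⟩ := (preimage_O hL hLq hj hP hPL hr hY (hS a).1 (hS a).2).ge
    (show y ∈ pL ⁻¹ᵁ XT u (N a) (S a) from ha)
  exact x.2

lemma exists_O (y : P) {W : Set P} (hW : IsOpen W) (hy : y ∈ W) :
    ∃ (m : ℕ) (g : 𝒮.presheaf.obj (op ⊤)), 0 < m ∧ g ∈ 𝒮.deg ⊤ hY m ∧ y ∈ O chart hY g ∧
      (O chart hY g : Set P) ⊆ W := by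
  obtain ⟨z, rfl⟩ := (mem_opensRange_emb (chart := chart) hY (x := y)).mpr trivial
  obtain ⟨m, g, hm, hg, hzg, hsub⟩ :=
    Proj16.exists_basicOpen_subset (hW.preimage (RelProj.emb p chart ⊤ hY).continuous) hy
  exact ⟨m, g, hm, hg, ⟨z, hzg, rfl⟩, Set.image_subset_iff.mpr hsub⟩

end Family

end Groth.Agent.ProjQX
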