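import Groth.Agent.ProjQX.Core
import Groth.Agent.Proj16.Points
import Groth.Agent.Proj16.Map

/-!
Points of `G(u)`, preimages of standard opens, dominance.
-/

universe u

open CategoryTheory CategoryTheory.Limits AlgebraicGeometry TopologicalSpace Opposite
open scoped HomogeneousIdeal

noncomputable section

namespace Groth.Agent.ProjQX

set_option backward.isDefEq.respectTransparency false
set_option backward.isDefEq.respectTransparency.types false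

lemma basicOpen_eq_bot_iff {A σ : Type u} [CommRing A] [SetLike σ A] [AddSubgroupClass σ A] {𝒜 : ℕ → σ}
    [GradedRing 𝒜] {d : ℕ} {f : A} (hd : 0 < d) (hf : f ∈ 𝒜 d) :
    Proj.basicOpen 𝒜 f = ⊥ ↔ IsNilpotent f := by
  constructor
  · intro h
    by_contra hn
    obtain ⟨x, -, hx⟩ := Proj16.exists_point 𝒜 (Ideal.IsHomogeneous.bot 𝒜) hd hf hn
    have : (x : Proj 𝒜) ∈ Proj.basicOpen 𝒜 f := hx
    rw [h] at this
    exact this
  · rintro ⟨n, hn⟩
    refine eq_bot_iff.mpr fun x hx => hx ?_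
    exact (x : ProjectiveSpectrum 𝒜).isPrime.mem_of_pow_mem n (hn ▸ Submodule.zero_mem _)

variable {S S' P P' : Scheme.{u}} {g : S' ⟶ S} {𝒮 : RelProj.QCGrAlg S} {𝒮' : RelProj.QCGrAlg S'}
  {u : RelProj.QGrHom g 𝒮 𝒮'}
  {p : P ⟶ S}
  {chart : ∀ (U : S.Opens) (hU : IsAffineOpen U), (((p ⁻¹ᵁ U : P.Opens) : Scheme.{u}) ≅ Proj (𝒮.deg U hU))}
  {p' : P' ⟶ S'}
  {chart' : ∀ (U' : S'.Opens) (hU' : IsAffineOpen U'), (((p' ⁻¹ᵁ U' : P'.Opens) : Scheme.{u}) ≅ Proj (𝒮'.deg U' hU'))}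
  (hP : RelProj.IsRelProj 𝒮 p chart) (hP' : RelProj.IsRelProj 𝒮' p' chart')

include hP' in
/-- In a chart, `G(u)` is the open of definition of `u_{U,U'}`. -/
theorem emb_mem_domQ_iff' {U : S.Opens} (hU : IsAffineOpen U) {U' : S'.Opens} (hU' : IsAffineOpen U')
    (hle : U' ≤ g ⁻¹ᵁ U) (z : Proj (𝒮'.deg U' hU')) :
    RelProj.emb p' chart' U' hU' z ∈ RelProj.domQ u p' chart' ↔
      z ∈ RelCone.domOpen (u.gradedAt U hU U' hU' hle) := by
  refine ⟨fun h => ?_, fun h => ?_⟩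
  · obtain ⟨i, hi⟩ := exists_idx _ h
    rw [range_emb'] at hi
    obtain ⟨zi, hzi, hix⟩ := hi
    have hxU : p' (RelProj.emb p' chart' U' hU' z) ∈ U' := (mem_opensRange_emb hU').mp ⟨z, rfl⟩
    have hxi : p' (RelProj.emb p' chart' U' hU' z) ∈ i.U' := (mem_opensRange_emb i.hU').mp ⟨zi, hix⟩
    obtain ⟨D, hD, hBU, hBi, -, hgD⟩ := exists_common (W := ⊤) hU i.hU (hle hxU) (i.hle hxi) trivial
    obtain ⟨D', hD', hBU', hBi', hle', hxD'⟩ := exists_common (W := g ⁻¹ᵁ D) hU' i.hU' hxU hxi hgD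
    obtain ⟨w, hw⟩ : RelProj.emb p' chart' U' hU' z ∈ (RelProj.emb p' chart' D' hD').opensRange :=
      (mem_opensRange_emb hD').mpr hxD'
    have eU : Proj.map (𝒮'.res hU' hD' hBU'.le) (irr_res 𝒮' hU' hD' hBU') w = z :=
      (RelProj.emb p' chart' U' hU').isOpenEmbedding.injective (by
        rw [← Scheme.Hom.comp_apply, map_emb hP' hU' hD' hBU']; exact hw)
    have ei : Proj.map (𝒮'.res i.hU' hD' hBi'.le) (irr_res 𝒮' i.hU' hD' hBi') w = zi :=
      (RelProj.emb p' chart' i.U' i.hU').isOpenEmbedding.injective (by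
        rw [← Scheme.Hom.comp_apply, map_emb hP' i.hU' hD' hBi']; exact hw.trans hix.symm)
    have hwD : w ∈ RelCone.domOpen (u.gradedAt D hD D' hD' hle') := by
      refine mem_domOpen_of_homogeneous _ i.hd ((𝒮.res i.hU hD hBi.le).map_mem i.hf) ?_
      show u.gradedAt D hD D' hD' hle' (𝒮.res i.hU hD hBi.le i.f) ∉ (w : ProjectiveSpectrum _).asHomogeneousIdeal
      rw [comm_res u i.hU hD i.hU' hD' hBi.le hBi'.le i.hle hle']
      subst ei
      exact hzi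
    rw [← eU]
    exact mem_domOpen_map _ _ (𝒮.res hU hD hBU.le) (𝒮'.res hU' hD' hBU'.le) (irr_res 𝒮 hU hD hBU)
      (irr_res 𝒮' hU' hD' hBU') (comm_res u hU hD hU' hD' hBU.le hBU'.le hle hle') hwD
  · exact Opens.mem_iSup.mpr ⟨⟨(⟨U, hU⟩, ⟨U', hU'⟩), hle⟩, z, h, rfl⟩

include hP hP' in
/-- Where a point of `G(u)` is sent. -/
theorem map_mem_iff {v : (RelProj.domQ u p' chart' : Scheme.{u}) ⟶ P}
    (hv : RelProj.IsProjQMapOn u p chart p' chart' (RelProj.domQ u p' chart') v)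
    {U : S.Opens} {hU : IsAffineOpen U} {U' : S'.Opens} {hU' : IsAffineOpen U'} (hle : U' ≤ g ⁻¹ᵁ U)
    {d : ℕ} (hd : 0 < d) {f : 𝒮.presheaf.obj (op U)} (hf : f ∈ 𝒮.deg U hU d)
    (x : (RelProj.domQ u p' chart' : Scheme.{u})) {z : Proj (𝒮'.deg U' hU')}
    (hz : RelProj.emb p' chart' U' hU' z = x.1) :
    v x ∈ RelProj.emb p chart U hU ''ᵁ Proj.basicOpen (𝒮.deg U hU) f ↔
      z ∈ Proj.basicOpen (𝒮'.deg U' hU') (u.gradedAt U hU U' hU' hle f) :=
  mem_basicOpen_of_map hP hP' hv hle hd hf x hz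
    ((emb_mem_domQ_iff' hP' hU hU' hle z).mp (by rw [hz]; exact x.2))

include hP hP' in
lemma preimage_eq_bot_iff {v : (RelProj.domQ u p' chart' : Scheme.{u}) ⟶ P}
    (hv : RelProj.IsProjQMapOn u p chart p' chart' (RelProj.domQ u p' chart') v)
    {U : S.Opens} (hU : IsAffineOpen U) {d : ℕ} (hd : 0 < d) {f : 𝒮.presheaf.obj (op U)}
    (hf : f ∈ 𝒮.deg U hU d) :
    v ⁻¹ᵁ (RelProj.emb p chart U hU ''ᵁ Proj.basicOpen (𝒮.deg U hU) f) = ⊥ ↔
      ∀ (U' : S'.Opens) (hU' : IsAffineOpen U') (hle : U' ≤ g ⁻¹ᵁ U),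
        IsNilpotent (u.gradedAt U hU U' hU' hle f) := by
  constructor
  · intro h U' hU' hle
    refine (basicOpen_eq_bot_iff hd ((u.gradedAt U hU U' hU' hle).map_mem hf)).mp ?_
    refine eq_bot_iff.mpr fun z hz => ?_
    have hx : RelProj.emb p' chart' U' hU' z ∈ RelProj.domQ u p' chart' :=
      (emb_mem_domQ_iff' hP' hU hU' hle z).mpr (mem_domOpen_of_homogeneous _ hd hf hz)
    have := (map_mem_iff hP hP' hv hle hd hf ⟨_, hx⟩ (z := z) rfl).mpr hz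
    exact (h.le this : (⟨_, hx⟩ : (RelProj.domQ u p' chart' : Scheme.{u})) ∈ (⊥ : Opens _))
  · intro h
    refine eq_bot_iff.mpr fun x hx => ?_
    have hgU : g (p' x.1) ∈ U := by
      obtain ⟨y, -, hy⟩ := hx
      have hcomp := congrArg (fun ψ : (RelProj.domQ u p' chart' : Scheme.{u}) ⟶ S => ψ x)
        (comp_eq hP hP' hv)
      change p (v x) = g (p' x.1) at hcomp
      exact hcomp ▸ (mem_opensRange_emb hU).mp ⟨y, hy⟩
    obtain ⟨_, ⟨U', hU', rfl⟩, hxU', hle⟩ := S'.isBasis_affineOpens.exists_subset_of_mem_open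
      (show p' x.1 ∈ g ⁻¹ᵁ U from hgU) (g ⁻¹ᵁ U).2
    obtain ⟨z, hz⟩ := (mem_opensRange_emb (chart := chart') hU').mpr hxU'
    have hzb := (map_mem_iff hP hP' hv (hU' := hU') hle hd hf x hz).mp hx
    exact ((basicOpen_eq_bot_iff hd ((u.gradedAt U hU U' hU' hle).map_mem hf)).mpr (h U' hU' hle)).le hzb

/-- Nilpotency on affine opens is local. -/
lemma isNilpotent_of_locally (hP' : RelProj.IsRelProj 𝒮' p' chart') {U : S.Opens} (hU : IsAffineOpen U)
    {d : ℕ} (hd : 0 < d) {f : 𝒮.presheaf.obj (op U)} (hf : f ∈ 𝒮.deg U hU d)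
    (h : ∀ x : S', g x ∈ U → ∃ (V : S'.Opens) (hV : IsAffineOpen V) (hle : V ≤ g ⁻¹ᵁ U), x ∈ V ∧
      IsNilpotent (u.gradedAt U hU V hV hle f))
    (U' : S'.Opens) (hU' : IsAffineOpen U') (hle : U' ≤ g ⁻¹ᵁ U) :
    IsNilpotent (u.gradedAt U hU U' hU' hle f) := by
  refine (basicOpen_eq_bot_iff hd ((u.gradedAt U hU U' hU' hle).map_mem hf)).mp ?_
  refine eq_bot_iff.mpr fun z hz => ?_
  have hxU : p' (RelProj.emb p' chart' U' hU' z) ∈ U' := (mem_opensRange_emb hU').mp ⟨z, rfl⟩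
  obtain ⟨V, hV, hleV, hxV, hn⟩ := h _ (hle hxU)
  obtain ⟨D, hD, hBU, hBV, hleD, hxD⟩ := exists_common (W := g ⁻¹ᵁ U) hU' hV hxU hxV (hle hxU)
  obtain ⟨w, hw⟩ : RelProj.emb p' chart' U' hU' z ∈ (RelProj.emb p' chart' D hD).opensRange :=
    (mem_opensRange_emb hD).mpr hxD
  have e : Proj.map (𝒮'.res hU' hD hBU.le) (irr_res 𝒮' hU' hD hBU) w = z :=
    (RelProj.emb p' chart' U' hU').isOpenEmbedding.injective (by
      rw [← Scheme.Hom.comp_apply, map_emb hP' hU' hD hBU]; exact hw)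
  have hres : ∀ (W : S'.Opens) (hW : IsAffineOpen W) (hlW : W ≤ g ⁻¹ᵁ U) (i : D ≤ W),
      𝒮'.res hW hD i (u.gradedAt U hU W hW hlW f) = u.gradedAt U hU D hD hleD f := fun W hW hlW i => by
    show (𝒮'.presheaf.map (homOfLE i).op).hom ((u.appLE U W hlW).hom f) = (u.appLE U D hleD).hom f
    rw [← CommRingCat.comp_apply, u.toQHom.appLE_map]
  obtain ⟨n, hn⟩ := hn
  have h0 : (u.gradedAt U hU D hD hleD f) ^ n = 0 := by rw [← hres V hV hleV hBV.le, ← map_pow, hn, map_zero]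
  subst e
  refine (?_ : 𝒮'.res hU' hD hBU.le (u.gradedAt U hU U' hU' hle f) ∉ (w : ProjectiveSpectrum _).asHomogeneousIdeal)
    |> fun hnot => (hnot ?_).elim
  · exact hz
  · rw [hres U' hU' hle hBU.le]
    exact (w : ProjectiveSpectrum _).isPrime.mem_of_pow_mem n (h0 ▸ Submodule.zero_mem _)

include hP hP' in
/-- Dominance of `Proj(u)`, with the base covered by given affine opens. -/
theorem isDominant_iff {v : (RelProj.domQ u p' chart' : Scheme.{u}) ⟶ P}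
    (hv : RelProj.IsProjQMapOn u p chart p' chart' (RelProj.domQ u p' chart') v)
    (C : Set S.Opens) (hC : ∀ U ∈ C, IsAffineOpen U) (hcov : ∀ s : S, ∃ U ∈ C, s ∈ U) :
    IsDominant v ↔
      ∀ (U : S.Opens) (hU : U ∈ C) (d : ℕ), 0 < d → ∀ f ∈ 𝒮.deg U (hC U hU) d,
        (∀ (U' : S'.Opens) (hU' : IsAffineOpen U') (hle : U' ≤ g ⁻¹ᵁ U),
          IsNilpotent (u.gradedAt U (hC U hU) U' hU' hle f)) → IsNilpotent f := by
  constructor
  · intro hdom U hU d hd f hf hnil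
    by_contra hn
    obtain ⟨z, -, hz⟩ := Proj16.exists_point (𝒮.deg U (hC U hU)) (Ideal.IsHomogeneous.bot _) hd hf hn
    obtain ⟨x, hy⟩ := hdom.denseRange.exists_mem_open (Opens.isOpen
      (RelProj.emb p chart U (hC U hU) ''ᵁ Proj.basicOpen (𝒮.deg U (hC U hU)) f)) ⟨_, z, hz, rfl⟩
    exact ((preimage_eq_bot_iff hP hP' hv (hC U hU) hd hf).mpr hnil).le (show x ∈ v ⁻¹ᵁ _ from hy)
  · intro h
    refine ⟨dense_iff_inter_open.mpr fun O hO ⟨y, hy⟩ => ?_⟩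
    obtain ⟨U, hUC, hyU⟩ := hcov (p y)
    obtain ⟨z, rfl⟩ := (mem_opensRange_emb (chart := chart) (hC U hUC)).mpr hyU
    obtain ⟨d, f, hd, hf, hzf, hsub⟩ := Proj16.exists_basicOpen_subset
      (hO.preimage (RelProj.emb p chart U (hC U hUC)).continuous) hy
    by_contra hne
    refine (basicOpen_eq_bot_iff hd hf).mpr (h U hUC d hd f hf ((preimage_eq_bot_iff hP hP' hv _ hd hf).mp
      (eq_bot_iff.mpr fun x hx => ?_))) |>.le hzf
    obtain ⟨w, hw, hwx⟩ := hx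
    exact (hne ⟨v x, hwx ▸ hsub hw, x, rfl⟩).elim

end Groth.Agent.ProjQX
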