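import Groth.Agent.ProjQX.ConeRing
import Groth.Agent.ProjQX.Points
import Groth.Prelude.Def_RelSpec2

/-!
The projective cone `Proj(𝒮[z])`: pointed cone, affine part, part at infinity.
-/

universe u

open CategoryTheory CategoryTheory.Limits AlgebraicGeometry TopologicalSpace Opposite
open scoped HomogeneousIdeal

noncomputable section

namespace Groth.Agent.ProjQX

set_option backward.isDefEq.respectTransparency false
set_option backward.isDefEq.respectTransparency.types false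

variable {Y PC : Scheme.{u}} {𝒮 𝒮h : RelProj.QCGrAlg Y} {ι : 𝒮.toQCAlg ⟶ 𝒮h.toQCAlg}
  {z : 𝒮h.presheaf.obj (op ⊤)} (hz : RelCone.IsPolyOver 𝒮 𝒮h ι z)
  {pC : PC ⟶ Y}
  {chartC : ∀ (U : Y.Opens) (hU : IsAffineOpen U), (((pC ⁻¹ᵁ U : PC.Opens) : Scheme.{u}) ≅ Proj (𝒮h.deg U hU))}

include hz in
lemma isPolyRing {U : Y.Opens} (hU : IsAffineOpen U) :
    IsPolyRing (𝒮.deg U hU) (𝒮h.deg U hU) (ι.hom.app (op U)).hom (RelCone.restrictTop 𝒮h z U) :=
  ⟨fun ha => hz.graded U hU _ _ ha, hz.deg_z U hU, hz.bij U hU⟩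

lemma res_restrictTop {U D : Y.Opens} (hU : IsAffineOpen U) (hD : IsAffineOpen D) (h : D ≤ U) :
    𝒮h.res hU hD h (RelCone.restrictTop 𝒮h z U) = RelCone.restrictTop 𝒮h z D := by
  show (𝒮h.presheaf.map _).hom ((𝒮h.presheaf.map _).hom z) = (𝒮h.presheaf.map _).hom z
  rw [← CommRingCat.comp_apply, ← 𝒮h.presheaf.map_comp]
  rfl

/-- Whether `z` vanishes at a point does not depend on the chart. -/
lemma notMem_congr (hPC : RelProj.IsRelProj 𝒮h pC chartC) {U V : Y.Opens} (hU : IsAffineOpen U)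
    (hV : IsAffineOpen V) {a : Proj (𝒮h.deg U hU)} {b : Proj (𝒮h.deg V hV)}
    (e : RelProj.emb pC chartC U hU a = RelProj.emb pC chartC V hV b) :
    a ∈ Proj.basicOpen (𝒮h.deg U hU) (RelCone.restrictTop 𝒮h z U) ↔
      b ∈ Proj.basicOpen (𝒮h.deg V hV) (RelCone.restrictTop 𝒮h z V) := by
  have hxU : pC (RelProj.emb pC chartC U hU a) ∈ U := (mem_opensRange_emb hU).mp ⟨a, rfl⟩
  have hxV : pC (RelProj.emb pC chartC U hU a) ∈ V := (mem_opensRange_emb hV).mp ⟨b, e.symm⟩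
  obtain ⟨D, hD, hBU, hBV, -, hxD⟩ := exists_common (W := ⊤) hU hV hxU hxV trivial
  obtain ⟨w, hw⟩ := (mem_opensRange_emb (chart := chartC) hD).mpr hxD
  have ea : Proj.map (𝒮h.res hU hD hBU.le) (irr_res 𝒮h hU hD hBU) w = a :=
    (RelProj.emb pC chartC U hU).isOpenEmbedding.injective (by
      rw [← Scheme.Hom.comp_apply, map_emb hPC hU hD hBU]; exact hw)
  have eb : Proj.map (𝒮h.res hV hD hBV.le) (irr_res 𝒮h hV hD hBV) w = b :=
    (RelProj.emb pC chartC V hV).isOpenEmbedding.injective (by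
      rw [← Scheme.Hom.comp_apply, map_emb hPC hV hD hBV]; exact hw.trans e)
  subst ea eb
  show 𝒮h.res hU hD hBU.le _ ∉ (w : ProjectiveSpectrum _).asHomogeneousIdeal ↔
    𝒮h.res hV hD hBV.le _ ∉ (w : ProjectiveSpectrum _).asHomogeneousIdeal
  rw [res_restrictTop hU hD hBU.le, res_restrictTop hV hD hBV.le]

variable (pC chartC) in
/-- The pointed projective cone is `G(ι)`. -/
theorem pointed_eq_domQ (hPC : RelProj.IsRelProj 𝒮h pC chartC) :
    RelCone.pointedProjCone 𝒮 hz pC chartC =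
      RelProj.domQ (RelProj.QGrHom.ofHom ι hz.graded) pC chartC := by
  refine le_antisymm (fun x hx => ?_) (fun x hx => ?_)
  · obtain ⟨U, a, ha, rfl⟩ := Opens.mem_iSup.mp hx
    exact (emb_mem_domQ_iff hPC U.1 U.2 a).mpr ha
  · obtain ⟨_, ⟨U, hU, rfl⟩, hxU, -⟩ := Y.isBasis_affineOpens.exists_subset_of_mem_open
      (Set.mem_univ (pC x)) isOpen_univ
    obtain ⟨a, rfl⟩ := (mem_opensRange_emb (chart := chartC) hU).mpr hxU
    exact Opens.mem_iSup.mpr ⟨⟨U, hU⟩, a, (emb_mem_domQ_iff hPC U hU a).mp hx, rfl⟩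

include hz in
lemma mem_pointed_iff (hPC : RelProj.IsRelProj 𝒮h pC chartC) {U : Y.Opens} (hU : IsAffineOpen U)
    (a : Proj (𝒮h.deg U hU)) :
    RelProj.emb pC chartC U hU a ∈ RelCone.pointedProjCone 𝒮 hz pC chartC ↔
      ∃ f ∈ (𝒮.deg U hU)₊.toIdeal,
        (ι.hom.app (op U)).hom f ∉ (a : ProjectiveSpectrum (𝒮h.deg U hU)).asHomogeneousIdeal := by
  rw [pointed_eq_domQ hz pC chartC hPC, emb_mem_domQ_iff hPC U hU a, RelCone.mem_domOpen]
  exact Iff.rfl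

include hz in
lemma mem_irrelevant_le {U : Y.Opens} (hU : IsAffineOpen U) (a : Proj (𝒮h.deg U hU))
    (h : ∀ f ∈ (𝒮.deg U hU)₊.toIdeal,
      (ι.hom.app (op U)).hom f ∈ (a : ProjectiveSpectrum (𝒮h.deg U hU)).asHomogeneousIdeal) :
    a ∈ Proj.basicOpen (𝒮h.deg U hU) (RelCone.restrictTop 𝒮h z U) := by
  intro hza
  refine (a : ProjectiveSpectrum (𝒮h.deg U hU)).not_irrelevant_le
    (((isPolyRing hz hU).irrelevant_le.trans (sup_le (Ideal.map_le_iff_le_comap.mpr h) ?_) :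
      ((𝒮h.deg U hU)₊).toIdeal ≤ (a : ProjectiveSpectrum (𝒮h.deg U hU)).asHomogeneousIdeal.toIdeal))
  rw [Ideal.span_singleton_le_iff_mem]
  exact hza

lemma bijective_awayZToBase {U : Y.Opens} (hU : IsAffineOpen U) :
    Function.Bijective (hz.awayZToBase U hU) :=
  (isPolyRing hz hU).bijective_away _ fun q k x _ hq => hz.awayZToBase_of_val U hU q x k hq

variable {i : 𝒮.toQCAlg.spec ⟶ PC}

include hz in
lemma range_coneImm_chart (hi : RelCone.IsConeImm 𝒮 hz pC chartC i) {U : Y.Opens} (hU : IsAffineOpen U) :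
    Set.range (𝒮.toQCAlg.ι U hU ≫ i) =
      (RelProj.emb pC chartC U hU) '' (Proj.basicOpen (𝒮h.deg U hU) (RelCone.restrictTop 𝒮h z U) : Set _) := by
  have : IsIso (CommRingCat.ofHom (hz.awayZToBase U hU)) :=
    (ConcreteCategory.isIso_iff_bijective _).mpr (bijective_awayZToBase hz hU)
  rw [hi U hU, ← Proj.opensRange_awayι (𝒮h.deg U hU) (RelCone.restrictTop 𝒮h z U) (hz.deg_z U hU) one_pos]
  ext x
  constructor
  · rintro ⟨s, rfl⟩
    exact ⟨_, ⟨Spec.map (CommRingCat.ofHom (hz.awayZToBase U hU)) s, rfl⟩, rfl⟩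
  · rintro ⟨_, ⟨t, rfl⟩, rfl⟩
    obtain ⟨s, rfl⟩ := (Spec.map (CommRingCat.ofHom (hz.awayZToBase U hU))).homeomorph.surjective t
    exact ⟨s, rfl⟩

include hz in
theorem mem_range_coneImm_iff (hPC : RelProj.IsRelProj 𝒮h pC chartC)
    (hi : RelCone.IsConeImm 𝒮 hz pC chartC i) {U : Y.Opens} (hU : IsAffineOpen U) (a : Proj (𝒮h.deg U hU)) :
    RelProj.emb pC chartC U hU a ∈ Set.range i ↔
      a ∈ Proj.basicOpen (𝒮h.deg U hU) (RelCone.restrictTop 𝒮h z U) := by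
  constructor
  · rintro ⟨s, hs⟩
    obtain ⟨_, ⟨V, hV, rfl⟩, hsV, -⟩ := Y.isBasis_affineOpens.exists_subset_of_mem_open
      (Set.mem_univ (𝒮.toQCAlg.π s)) isOpen_univ
    obtain ⟨t, rfl⟩ := (𝒮.toQCAlg.π_preimage V hV).le hsV
    have : RelProj.emb pC chartC U hU a ∈ Set.range (𝒮.toQCAlg.ι V hV ≫ i) := ⟨t, hs⟩
    rw [range_coneImm_chart hz hi hV] at this
    obtain ⟨b, hb, e⟩ := this
    exact (notMem_congr hPC hU hV e.symm).mpr hb
  · intro ha
    obtain ⟨t, ht⟩ : RelProj.emb pC chartC U hU a ∈ Set.range (𝒮.toQCAlg.ι U hU ≫ i) :=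
      (range_coneImm_chart hz hi hU).ge ⟨a, ha, rfl⟩
    exact ⟨_, ht⟩

end Groth.Agent.ProjQX
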