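import Groth.Agent.ProjQX.Points
import Groth.Agent.ProjQX.SameBase

/-!
`Proj(u ∘ v) = Proj(v) ∘ Proj(u)`.
-/

universe u

open CategoryTheory CategoryTheory.Limits AlgebraicGeometry TopologicalSpace Opposite
open scoped HomogeneousIdeal

noncomputable section

namespace Groth.Agent.ProjQX

set_option backward.isDefEq.respectTransparency false
set_option backward.isDefEq.respectTransparency.types false

lemma chart_comp {A B C σA σB σC : Type u} [CommRing A] [CommRing B] [CommRing C] [SetLike σA A]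
    [AddSubgroupClass σA A] [SetLike σB B] [AddSubgroupClass σB B] [SetLike σC C] [AddSubgroupClass σC C]
    {𝒜 : ℕ → σA} [GradedRing 𝒜] {ℬ : ℕ → σB} [GradedRing ℬ] {𝒞 : ℕ → σC} [GradedRing 𝒞]
    (χ : 𝒜 →+*ᵍ 𝒞) (φ : 𝒜 →+*ᵍ ℬ) (ψ : ℬ →+*ᵍ 𝒞) (h : χ = ψ.comp φ) {d : ℕ} {f : A} (hd : 0 < d) (hf : f ∈ 𝒜 d) :
    ∃ c : Spec (CommRingCat.of (HomogeneousLocalization.Away 𝒞 (χ f))) ⟶
        Spec (CommRingCat.of (HomogeneousLocalization.Away 𝒞 (ψ (φ f)))),
      c ≫ Proj.awayι 𝒞 (ψ (φ f)) (ψ.map_mem (φ.map_mem hf)) hd = Proj.awayι 𝒞 (χ f) (χ.map_mem hf) hd ∧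
      c ≫ Spec.map (CommRingCat.ofHom (HomogeneousLocalization.Away.map ψ (φ f))) ≫
          Spec.map (CommRingCat.ofHom (HomogeneousLocalization.Away.map φ f)) =
        Spec.map (CommRingCat.ofHom (HomogeneousLocalization.Away.map χ f)) := by
  subst h
  refine ⟨𝟙 _, Category.id_comp _, (Category.id_comp _).trans ?_⟩
  rw [← Spec.map_comp, ← CommRingCat.ofHom_comp, HomogeneousLocalization.Away.map_comp]


variable {Y X P P' PL : Scheme.{u}} {q : X ⟶ Y} {𝒮 𝒯 : RelProj.QCGrAlg Y} {𝒮L : RelProj.QCGrAlg X}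
  {u : RelProj.QGrHom q 𝒮 𝒮L} {u' : RelProj.QGrHom q 𝒯 𝒮L} {v : 𝒯.toQCAlg ⟶ 𝒮.toQCAlg}
  (hv : RelProj.IsGradedHom v) (hu' : ∀ U : Y.Opens, u'.app U = v.hom.app (op U) ≫ u.app U)
  {p : P ⟶ Y} {chart : ∀ (U : Y.Opens) (hU : IsAffineOpen U), (((p ⁻¹ᵁ U : P.Opens) : Scheme.{u}) ≅ Proj (𝒮.deg U hU))}
  (hP : RelProj.IsRelProj 𝒮 p chart)
  {p' : P' ⟶ Y} {chart' : ∀ (U : Y.Opens) (hU : IsAffineOpen U), (((p' ⁻¹ᵁ U : P'.Opens) : Scheme.{u}) ≅ Proj (𝒯.deg U hU))}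
  (hP' : RelProj.IsRelProj 𝒯 p' chart')
  {pL : PL ⟶ X} {chartL : ∀ (U : X.Opens) (hU : IsAffineOpen U), (((pL ⁻¹ᵁ U : PL.Opens) : Scheme.{u}) ≅ Proj (𝒮L.deg U hU))}
  (hPL : RelProj.IsRelProj 𝒮L pL chartL)
  {r : (RelProj.domQ u pL chartL : Scheme.{u}) ⟶ P}
  (hr : RelProj.IsProjQMapOn u p chart pL chartL (RelProj.domQ u pL chartL) r)
  {r' : (RelProj.domQ u' pL chartL : Scheme.{u}) ⟶ P'}
  (hr' : RelProj.IsProjQMapOn u' p' chart' pL chartL (RelProj.domQ u' pL chartL) r')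

include hu' in
lemma grad_eq {U : Y.Opens} (hU : IsAffineOpen U) {U' : X.Opens} (hU' : IsAffineOpen U') (hle : U' ≤ q ⁻¹ᵁ U) :
    u'.gradedAt U hU U' hU' hle =
      (u.gradedAt U hU U' hU' hle).comp ((RelProj.QGrHom.ofHom v hv).gradedAt U hU U hU le_rfl) := by
  ext a
  show u'.gradedAt U hU U' hU' hle a = u.gradedAt U hU U' hU' hle ((RelProj.QGrHom.ofHom v hv).gradedAt U hU U hU le_rfl a)
  rw [gradedAt_ofHom]
  show (u'.app U ≫ 𝒮L.presheaf.map (homOfLE hle).op).hom a = _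
  rw [hu' U]
  rfl

include hv hu' hPL in
/-- `G(u ∘ v) ⊆ G(u)`. -/
lemma domQ_le : RelProj.domQ u' pL chartL ≤ RelProj.domQ u pL chartL := by
  intro x hx
  obtain ⟨⟨⟨⟨U, hU⟩, ⟨U', hU'⟩⟩, hle⟩, z, hz, rfl⟩ := Opens.mem_iSup.mp hx
  obtain ⟨d, f, hd, hf, hfz⟩ := exists_homogeneous_of_mem_domOpen _ hz
  refine (emb_mem_domQ_iff' hPL hU hU' hle z).mpr
    (mem_domOpen_of_homogeneous _ hd ((RelProj.QGrHom.ofHom v hv).gradedAt U hU U hU le_rfl |>.map_mem hf) ?_)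
  rw [grad_eq hv hu' hU hU' hle] at hfz
  exact hfz

include hPL hr hr' hu' in
/-- The composite. -/
theorem exists_comp {Φ : (RelProj.domQ (RelProj.QGrHom.ofHom v hv) p chart : Scheme.{u}) ⟶ P'}
    (hΦ : RelProj.IsProjQMapOn (RelProj.QGrHom.ofHom v hv) p' chart' p chart
      (RelProj.domQ (RelProj.QGrHom.ofHom v hv) p chart) Φ) :
    ∃ w : (RelProj.domQ u' pL chartL : Scheme.{u}) ⟶ (RelProj.domQ (RelProj.QGrHom.ofHom v hv) p chart : Scheme.{u}),
      w ≫ (RelProj.domQ (RelProj.QGrHom.ofHom v hv) p chart).ι = PL.homOfLE (domQ_le hv hu' hPL) ≫ r ∧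
      w ≫ Φ = r' := by
  let qv := RelProj.QGrHom.ofHom v hv
  let k (i : Idx u') : Idx qv := ⟨i.U, i.hU, i.U, i.hU, le_rfl, i.d, i.hd, i.f, i.hf⟩
  let j (i : Idx u') : Idx u :=
    ⟨i.U, i.hU, i.U', i.hU', i.hle, i.d, i.hd, (k i).grad i.f, (k i).grad.map_mem i.hf⟩
  have hchart : ∀ i : Idx u', ∃ c : i.src ⟶ (j i).src,
      embDom chartL i ≫ PL.homOfLE (domQ_le hv hu' hPL) = c ≫ embDom chartL (j i) ∧
      c ≫ Spec.map (CommRingCat.ofHom (HomogeneousLocalization.Away.map (j i).grad (j i).f)) ≫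
          Spec.map (CommRingCat.ofHom (HomogeneousLocalization.Away.map (k i).grad i.f)) =
        Spec.map (CommRingCat.ofHom (HomogeneousLocalization.Away.map i.grad i.f)) := by
    intro i
    obtain ⟨c, hc, hc'⟩ := chart_comp i.grad (k i).grad (j i).grad
      (grad_eq hv hu' i.hU i.hU' i.hle) i.hd i.hf
    refine ⟨c, ?_, hc'⟩
    rw [← cancel_mono (RelProj.domQ u pL chartL).ι, Category.assoc, Scheme.homOfLE_ι, embDom_ι, Category.assoc,
      embDom_ι]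
    exact ((congrArg (· ≫ RelProj.emb pL chartL i.U' i.hU') hc).symm.trans (Category.assoc _ _ _))
  have hrange : Set.range (PL.homOfLE (domQ_le hv hu' hPL) ≫ r) ⊆
      Set.range (RelProj.domQ qv p chart).ι := by
    rintro _ ⟨x, rfl⟩
    obtain ⟨i, y, hy⟩ := exists_idx u' x.2
    have hx : embDom chartL i y = x := by
      apply (RelProj.domQ u' pL chartL).ι.isOpenEmbedding.injective
      rw [← Scheme.Hom.comp_apply, embDom_ι]
      exact hy
    obtain ⟨c, hc, -⟩ := hchart i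
    rw [← hx, ← Scheme.Hom.comp_apply, reassoc_of% hc,
      (isProjQMapOn_domQ_iff u chart chartL r).mp hr (j i)]
    refine ⟨embDom chart (k i) (Spec.map (CommRingCat.ofHom
      (HomogeneousLocalization.Away.map (j i).grad (j i).f)) (c y)), ?_⟩
    rw [← Scheme.Hom.comp_apply, embDom_ι]
    rfl
  refine ⟨IsOpenImmersion.lift _ _ hrange, IsOpenImmersion.lift_fac _ _ _, ?_⟩
  refine (domCover u' chartL).hom_ext _ _ fun (i : Idx u') => ?_
  obtain ⟨c, hc, hc'⟩ := hchart i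
  show embDom chartL i ≫ IsOpenImmersion.lift _ _ hrange ≫ Φ = embDom chartL i ≫ r'
  rw [(isProjQMapOn_domQ_iff u' chart' chartL r').mp hr' i]
  have e : embDom chartL i ≫ IsOpenImmersion.lift _ _ hrange =
      c ≫ Spec.map (CommRingCat.ofHom (HomogeneousLocalization.Away.map (j i).grad (j i).f)) ≫
        embDom chart (k i) := by
    rw [← cancel_mono (RelProj.domQ qv p chart).ι, Category.assoc, IsOpenImmersion.lift_fac, reassoc_of% hc,
      (isProjQMapOn_domQ_iff u chart chartL r).mp hr (j i), Category.assoc, Category.assoc, embDom_ι]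
    rfl
  rw [reassoc_of% e, (isProjQMapOn_domQ_iff qv chart' chart Φ).mp hΦ (k i)]
  exact (congrArg (· ≫ Proj.awayι (𝒯.deg i.U i.hU) i.f i.hf i.hd ≫ RelProj.emb p' chart' i.U i.hU) hc').symm.trans
    (by simp only [tgt, Category.assoc]; rfl) |>.symm

end Groth.Agent.ProjQX
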