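import Groth.Agent.ProjQX.Cone
import Groth.Prelude.Def_RelProj4

/-!
Morphisms of projective cones induced by a graded `q`-morphism.
-/

universe u

open CategoryTheory CategoryTheory.Limits AlgebraicGeometry TopologicalSpace Opposite
open scoped HomogeneousIdeal

noncomputable section

namespace Groth.Agent.ProjQX

set_option backward.isDefEq.respectTransparency false
set_option backward.isDefEq.respectTransparency.types false

variable {Y Y' : Scheme.{u}} {q : Y' ⟶ Y} {𝒮 : RelProj.QCGrAlg Y} {𝒮' : RelProj.QCGrAlg Y'}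
  {u : RelProj.QGrHom q 𝒮 𝒮'} {𝒮h : RelProj.QCGrAlg Y} {ι : 𝒮.toQCAlg ⟶ 𝒮h.toQCAlg}
  {z : 𝒮h.presheaf.obj (op ⊤)} {𝒮h' : RelProj.QCGrAlg Y'} {ι' : 𝒮'.toQCAlg ⟶ 𝒮h'.toQCAlg}
  {z' : 𝒮h'.presheaf.obj (op ⊤)} {uh : RelProj.QGrHom q 𝒮h 𝒮h'}

lemma grad_z (huhz : (uh.app ⊤).hom z = RelCone.restrictTop 𝒮h' z' (q ⁻¹ᵁ ⊤)) {U : Y.Opens}
    (hU : IsAffineOpen U) {U' : Y'.Opens} (hU' : IsAffineOpen U') (hle : U' ≤ q ⁻¹ᵁ U) :
    uh.gradedAt U hU U' hU' hle (RelCone.restrictTop 𝒮h z U) = RelCone.restrictTop 𝒮h' z' U' := by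
  show (𝒮h'.presheaf.map (homOfLE hle).op).hom ((uh.app U).hom ((𝒮h.presheaf.map (homOfLE le_top).op).hom z)) = _
  have h := ConcreteCategory.congr_hom (uh.toQHom.naturality (le_top : U ≤ ⊤)) z
  simp only [ConcreteCategory.comp_apply] at h
  refine (congrArg (𝒮h'.presheaf.map (homOfLE hle).op).hom h.symm).trans ?_
  rw [huhz]
  simp only [RelCone.restrictTop]
  rw [← CommRingCat.comp_apply, ← CommRingCat.comp_apply, ← 𝒮h'.presheaf.map_comp, ← 𝒮h'.presheaf.map_comp]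
  rfl

lemma grad_ι (huh : ∀ U : Y.Opens, ι.hom.app (op U) ≫ uh.app U = u.app U ≫ ι'.hom.app (op (q ⁻¹ᵁ U)))
    {U : Y.Opens} (hU : IsAffineOpen U) {U' : Y'.Opens} (hU' : IsAffineOpen U') (hle : U' ≤ q ⁻¹ᵁ U)
    (a : 𝒮.presheaf.obj (op U)) :
    uh.gradedAt U hU U' hU' hle ((ι.hom.app (op U)).hom a) =
      (ι'.hom.app (op U')).hom (u.gradedAt U hU U' hU' hle a) := by
  show (𝒮h'.presheaf.map (homOfLE hle).op).hom ((uh.app U).hom _) =
    (ι'.hom.app (op U')).hom ((𝒮'.presheaf.map (homOfLE hle).op).hom ((u.app U).hom a))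
  refine (congrArg (𝒮h'.presheaf.map (homOfLE hle).op).hom (ConcreteCategory.congr_hom (huh U) a)).trans ?_
  exact (ConcreteCategory.congr_hom (ι'.hom.naturality (homOfLE hle).op) ((u.app U).hom a)).symm

/-- Evaluation at `z = 1` commutes with the morphism of cones. -/
lemma evalOne_grad (hz : RelCone.IsPolyOver 𝒮 𝒮h ι z) (hz' : RelCone.IsPolyOver 𝒮' 𝒮h' ι' z')
    (huh : ∀ U : Y.Opens, ι.hom.app (op U) ≫ uh.app U = u.app U ≫ ι'.hom.app (op (q ⁻¹ᵁ U)))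
    (huhz : (uh.app ⊤).hom z = RelCone.restrictTop 𝒮h' z' (q ⁻¹ᵁ ⊤))
    {U : Y.Opens} (hU : IsAffineOpen U) {U' : Y'.Opens} (hU' : IsAffineOpen U') (hle : U' ≤ q ⁻¹ᵁ U)
    (x : 𝒮h.presheaf.obj (op U)) :
    hz'.evalOne U' hU' (uh.gradedAt U hU U' hU' hle x) = u.gradedAt U hU U' hU' hle (hz.evalOne U hU x) := by
  obtain ⟨p, rfl⟩ := (hz.polyEquiv U hU).surjective x
  suffices h : ((hz'.evalOne U' hU').comp (uh.gradedAt U hU U' hU' hle).toRingHom).comp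
      (hz.polyEquiv U hU).toRingHom =
      (((u.gradedAt U hU U' hU' hle).toRingHom).comp (hz.evalOne U hU)).comp (hz.polyEquiv U hU).toRingHom from
    RingHom.congr_fun h p
  refine Polynomial.ringHom_ext (fun a => ?_) ?_
  · show hz'.evalOne U' hU' (uh.gradedAt U hU U' hU' hle (hz.polyEquiv U hU (Polynomial.C a))) =
      u.gradedAt U hU U' hU' hle (hz.evalOne U hU (hz.polyEquiv U hU (Polynomial.C a)))
    rw [RelCone.IsPolyOver.polyEquiv_apply, Polynomial.eval₂_C, grad_ι huh, hz'.evalOne_ι, hz.evalOne_ι]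
  · show hz'.evalOne U' hU' (uh.gradedAt U hU U' hU' hle (hz.polyEquiv U hU Polynomial.X)) =
      u.gradedAt U hU U' hU' hle (hz.evalOne U hU (hz.polyEquiv U hU Polynomial.X))
    rw [RelCone.IsPolyOver.polyEquiv_apply, Polynomial.eval₂_X, grad_z huhz, hz'.evalOne_z, hz.evalOne_z, map_one]

lemma spec_awayι_congr {B τ : Type u} [CommRing B] [SetLike τ B] [AddSubgroupClass τ B] {ℬ : ℕ → τ} [GradedRing ℬ]
    {C : CommRingCat.{u}} {a b : B} (e : a = b) (ha : a ∈ ℬ 1) (hb : b ∈ ℬ 1)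
    (θa : HomogeneousLocalization.Away ℬ a →+* C) (θb : HomogeneousLocalization.Away ℬ b →+* C)
    (h : ∀ (n : ℕ) (x : B) (hx : x ∈ ℬ (n • 1)),
      θa (HomogeneousLocalization.Away.mk ℬ ha n x hx) = θb (HomogeneousLocalization.Away.mk ℬ hb n x hx)) :
    Spec.map (CommRingCat.ofHom θa) ≫ Proj.awayι ℬ a ha one_pos =
      Spec.map (CommRingCat.ofHom θb) ≫ Proj.awayι ℬ b hb one_pos := by
  subst e
  rw [show θa = θb from RingHom.ext fun x => by
    obtain ⟨n, y, hy, rfl⟩ := x.mk_surjective ℬ ha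
    exact h n y hy]

end Groth.Agent.ProjQX
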