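import Mathlib.RingTheory.GradedAlgebra.HomogeneousLocalization
import Mathlib.Algebra.Category.Ring.Constructions
import Mathlib.RingTheory.IsTensorProduct

/-!
Base change of graded rings commutes with taking the degree-zero part of a localization.
-/

universe u

open CategoryTheory TensorProduct HomogeneousLocalization

noncomputable section

namespace Groth.Agent.ProjQX

namespace AwayBC

variable {R R' A B σA σB : Type u} [CommRing R] [CommRing R'] [CommRing A] [CommRing B]
  [Algebra R R'] [Algebra R A] [Algebra R B] [Algebra R' B] [IsScalarTower R R' B]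
  [SetLike σA A] [AddSubgroupClass σA A] [SetLike σB B] [AddSubgroupClass σB B]
  {𝒜 : ℕ → σA} [GradedRing 𝒜] {ℬ : ℕ → σB} [GradedRing ℬ]
  (φ : 𝒜 →+*ᵍ ℬ) (hA : ∀ r, algebraMap R A r ∈ 𝒜 0) (hB : ∀ r, algebraMap R' B r ∈ ℬ 0)
  (hφ : ∀ r, φ (algebraMap R A r) = algebraMap R B r)

/-- `φ` is linear. -/
def lin : A →ₗ[R] B where
  toFun := φ
  map_add' := map_add φ
  map_smul' r a := by
    simp only [Algebra.smul_def, map_mul, RingHom.id_apply, hφ]

/-- The comparison map. -/
def Φ : R' ⊗[R] A →ₗ[R'] B := (lin φ hφ).liftBaseChange R'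

lemma Φ_tmul (r : R') (a : A) : Φ (R' := R') φ hφ (r ⊗ₜ a) = algebraMap R' B r * φ a := by
  simp [Φ, lin, Algebra.smul_def]

/-- A degree, as a submodule. -/
def degSub (n : ℕ) : Submodule R A where
  carrier := 𝒜 n
  add_mem' := add_mem
  zero_mem' := zero_mem (𝒜 n)
  smul_mem' r a ha := by
    rw [Algebra.smul_def]
    simpa using SetLike.mul_mem_graded (hA r) ha

lemma mem_degSub {n : ℕ} {a : A} : a ∈ degSub (𝒜 := 𝒜) hA n ↔ a ∈ 𝒜 n := Iff.rfl

/-- The projection onto a degree. -/
def projDeg (n : ℕ) : A →ₗ[R] degSub (𝒜 := 𝒜) hA n where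
  toFun a := ⟨GradedRing.proj 𝒜 n a, by
    rw [mem_degSub, GradedRing.proj_apply]; exact SetLike.coe_mem _⟩
  map_add' a b := Subtype.ext (map_add (GradedRing.proj 𝒜 n) a b)
  map_smul' r a := Subtype.ext (by
    show GradedRing.proj 𝒜 n (r • a) = r • GradedRing.proj 𝒜 n a
    simp only [Algebra.smul_def, GradedRing.proj_apply]
    exact DirectSum.coe_decompose_mul_of_left_mem_of_le 𝒜 (hA r) (Nat.zero_le n))

lemma projDeg_subtype (n : ℕ) : (projDeg (𝒜 := 𝒜) hA n) ∘ₗ (degSub hA n).subtype = LinearMap.id := by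
  refine LinearMap.ext fun a => Subtype.ext ?_
  show GradedRing.proj 𝒜 n (a : A) = a
  rw [GradedRing.proj_apply, DirectSum.decompose_of_mem_same 𝒜 a.2]

/-- The comparison map in one degree. -/
def Ψ (n : ℕ) : R' ⊗[R] degSub (𝒜 := 𝒜) hA n →ₗ[R'] B :=
  Φ φ hφ ∘ₗ (degSub hA n).subtype.baseChange R'

lemma Ψ_tmul (n : ℕ) (r : R') (a : degSub (𝒜 := 𝒜) hA n) :
    Ψ (R' := R') φ hA hφ n (r ⊗ₜ a) = algebraMap R' B r * φ (a : A) := by
  simp [Ψ, Φ_tmul]

variable (hΦ : Function.Bijective (Φ (R' := R') φ hφ))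

include hΦ in
lemma Ψ_injective (n : ℕ) : Function.Injective (Ψ (R' := R') φ hA hφ n) := by
  refine hΦ.1.comp (Function.LeftInverse.injective (g := (projDeg hA n).baseChange R') fun y => ?_)
  rw [← LinearMap.comp_apply, ← LinearMap.baseChange_comp, projDeg_subtype, LinearMap.baseChange_id,
    LinearMap.id_apply]

include hΦ hB in
lemma mem_range_Ψ {n : ℕ} {b : B} (hb : b ∈ ℬ n) : ∃ y, Ψ (R' := R') φ hA hφ n y = b := by
  have key : ∀ x : R' ⊗[R] A,
      Ψ (R' := R') φ hA hφ n ((projDeg hA n).baseChange R' x) = GradedRing.proj ℬ n (Φ φ hφ x) := by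
    intro x
    induction x using TensorProduct.induction_on with
    | zero => simp
    | tmul r a =>
      rw [LinearMap.baseChange_tmul, Ψ_tmul, Φ_tmul, GradedRing.proj_apply,
        DirectSum.coe_decompose_mul_of_left_mem_of_le ℬ (hB r) (Nat.zero_le n)]
      congr 1
      exact GradedRingHom.map_directSumDecompose 𝒜 ℬ φ
    | add x y hx hy => simp only [map_add, hx, hy]
  obtain ⟨x, rfl⟩ := hΦ.2 b
  refine ⟨_, (key x).trans ?_⟩
  rw [GradedRing.proj_apply, DirectSum.decompose_of_mem_same _ hb]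

variable {d : ℕ} {f : A} (hf : f ∈ 𝒜 d)

/-- The structure map of `A_(f)`. -/
def strA : R →+* Away 𝒜 f :=
  (fromZeroRingHom 𝒜 (Submonoid.powers f)).comp
    ((algebraMap R A).codRestrict (SetLike.GradeZero.subring 𝒜) hA)

lemma val_strA (r : R) : (strA (f := f) hA r).val = algebraMap A (Localization.Away f) (algebraMap R A r) := by
  show Localization.mk _ _ = _
  rw [← Localization.mk_one_eq_algebraMap]
  rfl

/-- The structure map of `B_(φ f)`. -/
def strB : R' →+* Away ℬ (φ f) :=
  (fromZeroRingHom ℬ (Submonoid.powers (φ f))).comp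
    ((algebraMap R' B).codRestrict (SetLike.GradeZero.subring ℬ) hB)

lemma val_strB (r : R') :
    (strB (f := f) φ hB r).val = algebraMap B (Localization.Away (φ f)) (algebraMap R' B r) := by
  show Localization.mk _ _ = _
  rw [← Localization.mk_one_eq_algebraMap]
  rfl

include hφ in
lemma map_strA (r : R) : Away.map φ f (strA (f := f) hA r) = strB φ hB (algebraMap R R' r) := by
  apply val_injective
  refine Eq.trans ?_ (val_strB φ hB _).symm
  rw [show algebraMap R' B (algebraMap R R' r) = φ (algebraMap R A r) from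
    (IsScalarTower.algebraMap_apply R R' B r).symm.trans (hφ r).symm, ← Localization.mk_one_eq_algebraMap]
  show Localization.mk _ _ = _
  refine Localization.mk_eq_mk_iff.mpr (Localization.r_of_eq ?_)
  simp
  rfl

include hB hΦ hf hφ hA in
theorem isPushout :
    IsPushout (CommRingCat.ofHom (algebraMap R R')) (CommRingCat.ofHom (strA (f := f) hA))
      (CommRingCat.ofHom (strB (f := f) φ hB)) (CommRingCat.ofHom (Away.map φ f)) := by
  letI : Algebra R (Away 𝒜 f) := (strA hA).toAlgebra
  letI : Algebra R' (Away ℬ (φ f)) := (strB φ hB).toAlgebra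
  letI : Algebra R (Away ℬ (φ f)) := ((strB φ hB).comp (algebraMap R R')).toAlgebra
  have : IsScalarTower R R' (Away ℬ (φ f)) := IsScalarTower.of_algebraMap_eq' rfl
  let g : Away 𝒜 f →ₐ[R] Away ℬ (φ f) := { Away.map φ f with commutes' := fun r => map_strA φ hA hB hφ r }
  let T : R' ⊗[R] Away 𝒜 f →ₐ[R'] Away ℬ (φ f) :=
    Algebra.TensorProduct.lift (Algebra.ofId R' _) g fun _ _ => Commute.all _ _
  let frac : ∀ n : ℕ, degSub (𝒜 := 𝒜) hA (n • d) →ₗ[R] Away 𝒜 f := fun n =>
    { toFun := fun a => Away.mk 𝒜 hf n a a.2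
      map_add' := fun a b => val_injective _ (by
        simp only [HomogeneousLocalization.val_add, Away.val_mk]
        exact (Localization.add_mk_self _ _ _).symm)
      map_smul' := fun r a => val_injective _ (by
        simp only [RingHom.id_apply, Algebra.smul_def, HomogeneousLocalization.val_mul, Away.val_mk]
        show _ = (strA hA r).val * _
        rw [val_strA, ← Localization.mk_one_eq_algebraMap, Localization.mk_mul, one_mul]
        exact congrArg (fun x => Localization.mk x _) (Algebra.smul_def r (a : A))) }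
  let mp : ∀ m n : ℕ, degSub (𝒜 := 𝒜) hA (n • d) →ₗ[R] degSub (𝒜 := 𝒜) hA ((m + n) • d) := fun m n =>
    { toFun := fun a => ⟨f ^ m * a, by
        rw [mem_degSub, add_smul]
        exact SetLike.mul_mem_graded (SetLike.pow_mem_graded m hf) a.2⟩
      map_add' := fun a b => Subtype.ext (mul_add _ _ _)
      map_smul' := fun r a => Subtype.ext (mul_smul_comm r (f ^ m) (a : A)) }
  have hfm : ∀ (m n : ℕ), frac (m + n) ∘ₗ mp m n = frac n := by
    intro m n
    refine LinearMap.ext fun a => val_injective _ ?_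
    show (Away.mk 𝒜 hf _ (f ^ m * (a : A)) _).val = (Away.mk 𝒜 hf n (a : A) _).val
    simp only [Away.val_mk]
    refine Localization.mk_eq_mk_iff.mpr (Localization.r_of_eq ?_)
    simp only [pow_add]
    ring
  have hTy : ∀ (n : ℕ) (y : R' ⊗[R] degSub (𝒜 := 𝒜) hA (n • d)),
      (T ((frac n).baseChange R' y)).val =
        Localization.mk (Ψ φ hA hφ _ y) (⟨φ f ^ n, n, rfl⟩ : Submonoid.powers (φ f)) := by
    intro n y
    induction y using TensorProduct.induction_on with
    | zero => simp [Localization.mk_zero]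
    | tmul r a =>
      simp only [LinearMap.baseChange_tmul, T, Algebra.TensorProduct.lift_tmul, HomogeneousLocalization.val_mul,
        Ψ_tmul]
      show (strB φ hB r).val * (Away.map φ f (Away.mk 𝒜 hf n (a : A) a.2)).val = _
      rw [val_strB, Away.map_mk, Away.val_mk, ← Localization.mk_one_eq_algebraMap, Localization.mk_mul, one_mul]
    | add x y hx hy =>
      simp only [map_add, HomogeneousLocalization.val_add, hx, hy]
      exact Localization.add_mk_self _ _ _
  have hmpy : ∀ (m n : ℕ) (y : R' ⊗[R] degSub (𝒜 := 𝒜) hA (n • d)),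
      Ψ φ hA hφ _ ((mp m n).baseChange R' y) = φ f ^ m * Ψ φ hA hφ _ y := by
    intro m n y
    induction y using TensorProduct.induction_on with
    | zero => simp
    | tmul r a =>
      simp only [LinearMap.baseChange_tmul, Ψ_tmul]
      show algebraMap R' B r * φ (f ^ m * (a : A)) = _
      rw [map_mul, map_pow]
      ring
    | add x y hx hy => simp only [map_add, hx, hy, mul_add]
  have hraise : ∀ (m n : ℕ) (y : R' ⊗[R] degSub (𝒜 := 𝒜) hA (n • d)),
      (frac (m + n)).baseChange R' ((mp m n).baseChange R' y) = (frac n).baseChange R' y := fun m n y => by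
    rw [← LinearMap.comp_apply, ← LinearMap.baseChange_comp, hfm]
  have hsurjy : ∀ x : R' ⊗[R] Away 𝒜 f, ∃ n y, (frac n).baseChange R' y = x := by
    intro x
    induction x using TensorProduct.induction_on with
    | zero => exact ⟨0, 0, map_zero _⟩
    | tmul r w =>
      obtain ⟨n, a, ha, rfl⟩ := w.mk_surjective 𝒜 hf
      exact ⟨n, r ⊗ₜ ⟨a, ha⟩, LinearMap.baseChange_tmul _ _ _⟩
    | add x y hx hy =>
      obtain ⟨n, a, rfl⟩ := hx
      obtain ⟨m, b, rfl⟩ := hy
      obtain ⟨a', ha'⟩ : ∃ a', (frac (m + n)).baseChange R' a' = (frac n).baseChange R' a := ⟨_, hraise m n a⟩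
      obtain ⟨b', hb'⟩ : ∃ b', (frac (m + n)).baseChange R' b' = (frac m).baseChange R' b :=
        add_comm n m ▸ ⟨_, hraise n m b⟩
      exact ⟨m + n, a' + b', by rw [map_add, ha', hb']⟩
  have hT : Function.Bijective T := by
    refine ⟨(injective_iff_map_eq_zero T).mpr fun x hx => ?_, fun w => ?_⟩
    · obtain ⟨n, y, rfl⟩ := hsurjy x
      have h0 := hTy n y
      rw [hx, HomogeneousLocalization.val_zero, Localization.mk_eq_mk', eq_comm,
        IsLocalization.mk'_eq_zero_iff] at h0
      obtain ⟨⟨_, m, rfl⟩, hm⟩ := h0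
      have : (mp m n).baseChange R' y = 0 :=
        Ψ_injective φ hA hφ hΦ _ (((hmpy m n y).trans hm).trans (map_zero _).symm)
      rw [← hraise m n y, this, map_zero]
    · obtain ⟨n, b, hb, rfl⟩ := w.mk_surjective ℬ (φ.map_mem hf)
      obtain ⟨y, rfl⟩ := mem_range_Ψ φ hA hB hφ hΦ hb
      exact ⟨(frac n).baseChange R' y, val_injective _ ((hTy n y).trans (Away.val_mk _ _ _ _ _).symm)⟩
  refine (CommRingCat.isPushout_tensorProduct R R' (Away 𝒜 f)).of_iso (Iso.refl _) (Iso.refl _) (Iso.refl _)
    (AlgEquiv.ofBijective T hT).toRingEquiv.toCommRingCatIso (by simp) (by simp) ?_ ?_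
  · refine CommRingCat.hom_ext (RingHom.ext fun r => ?_)
    show T (r ⊗ₜ 1) = strB φ hB r
    simp [T]
    rfl
  · refine CommRingCat.hom_ext (RingHom.ext fun a => ?_)
    show T (1 ⊗ₜ a) = Away.map φ f a
    simp [T]
    rfl

end AwayBC

end Groth.Agent.ProjQX
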