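import Groth.Agent.ProjQX.SameBase

/-!
The ring `A[z]` with `z` of degree one.
-/

universe u

open AlgebraicGeometry HomogeneousLocalization Polynomial
open scoped HomogeneousIdeal

noncomputable section

namespace Groth.Agent.ProjQX

variable {A B σA σB : Type u} [CommRing A] [CommRing B] [SetLike σA A] [AddSubgroupClass σA A]
  [SetLike σB B] [AddSubgroupClass σB B] {𝒜 : ℕ → σA} [GradedRing 𝒜] {ℬ : ℕ → σB} [GradedRing ℬ]
  {ι : A →+* B} {z : B}

/-- `B = A[z]`, as graded rings. -/
structure IsPolyRing (𝒜 : ℕ → σA) (ℬ : ℕ → σB) (ι : A →+* B) (z : B) : Prop where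
  graded : ∀ {i : ℕ} {a : A}, a ∈ 𝒜 i → ι a ∈ ℬ i
  deg_z : z ∈ ℬ 1
  bij : Function.Bijective (Polynomial.eval₂RingHom ι z)

namespace IsPolyRing

variable (h : IsPolyRing 𝒜 ℬ ι z)

include h in
lemma term_mem {i : ℕ} {a : A} (ha : a ∈ 𝒜 i) (k : ℕ) : ι a * z ^ k ∈ ℬ (i + k) := by
  simpa using SetLike.mul_mem_graded (h.graded ha) (SetLike.pow_mem_graded k h.deg_z)

/-- The presentation. -/
def equiv : A[X] ≃+* B := RingEquiv.ofBijective _ h.bij

lemma equiv_apply (p : A[X]) : h.equiv p = p.eval₂ ι z := rfl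

lemma equiv_C (a : A) : h.equiv (C a) = ι a := by rw [equiv_apply, eval₂_C]

lemma equiv_X : h.equiv X = z := by rw [equiv_apply, eval₂_X]

include h in
lemma eval₂_eq_sum_range' (p : A[X]) {n : ℕ} (hn : p.natDegree < n) :
    h.equiv p = ∑ k ∈ Finset.range n, ι (p.coeff k) * z ^ k :=
  Polynomial.eval₂_eq_sum_range' _ hn _

/-- The coefficients of an element of degree `n`. -/
lemma coeff_mem {n : ℕ} {x : B} (hx : x ∈ ℬ n) (k : ℕ) :
    (k ≤ n → (h.equiv.symm x).coeff k ∈ 𝒜 (n - k)) ∧ (n < k → (h.equiv.symm x).coeff k = 0) := by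
  classical
  set p := h.equiv.symm x
  let p' : A[X] := ∑ k ∈ Finset.range (n + 1),
    C (DirectSum.decompose 𝒜 (p.coeff k) (n - k) : A) * X ^ k
  have hp' : h.equiv p' = x := by
    have h1 : x = GradedRing.proj ℬ n (h.equiv p) := by
      rw [RingEquiv.apply_symm_apply, GradedRing.proj_apply, DirectSum.decompose_of_mem_same _ hx]
    rw [h1, h.eval₂_eq_sum_range' p (Nat.lt_succ_iff.mpr (le_max_left p.natDegree n)), map_sum]
    simp only [p', map_sum, map_mul, map_pow, h.equiv_C, h.equiv_X]
    have hterm : ∀ k, GradedRing.proj ℬ n (ι (p.coeff k) * z ^ k) =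
        if k ≤ n then ι (DirectSum.decompose 𝒜 (p.coeff k) (n - k) : A) * z ^ k else 0 := by
      intro k
      conv_lhs => rw [← DirectSum.sum_support_decompose 𝒜 (p.coeff k), map_sum, Finset.sum_mul, map_sum]
      simp only [GradedRing.proj_apply]
      split_ifs with hk
      · rw [Finset.sum_eq_single (n - k)]
        · refine DirectSum.decompose_of_mem_same _ ?_
          have := h.term_mem (SetLike.coe_mem (DirectSum.decompose 𝒜 (p.coeff k) (n - k))) k
          rwa [Nat.sub_add_cancel hk] at this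
        · intro i _ hi
          exact DirectSum.decompose_of_mem_ne _ (h.term_mem (SetLike.coe_mem _) k) (by omega)
        · intro hi
          rw [DFinsupp.notMem_support_iff.mp hi]
          simp
      · exact Finset.sum_eq_zero fun i _ =>
          DirectSum.decompose_of_mem_ne _ (h.term_mem (SetLike.coe_mem _) k) (by omega)
    simp only [hterm]
    rw [← Finset.sum_subset (s₁ := Finset.range (n + 1)) (Finset.range_subset_range.mpr (Nat.succ_le_succ (le_max_right _ _)))
      (fun k _ hk => if_neg (by simpa [Nat.lt_succ_iff] using hk))]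
    exact Finset.sum_congr rfl fun k hk => (if_pos (Nat.lt_succ_iff.mp (Finset.mem_range.mp hk))).symm
  have hp : p = p' := h.equiv.injective (by rw [hp', RingEquiv.apply_symm_apply])
  rw [hp]
  simp only [p', finsetSum_coeff, coeff_C_mul_X_pow, Finset.sum_ite_eq, Finset.mem_range]
  refine ⟨fun hk => ?_, fun hk => if_neg (by omega)⟩
  rw [if_pos (Nat.lt_succ_iff.mpr hk)]
  exact SetLike.coe_mem _

/-- `z ↦ 1`. -/
def evalOne : B →+* A := (Polynomial.evalRingHom 1).comp h.equiv.symm.toRingHom

lemma evalOne_ι (a : A) : h.evalOne (ι a) = a := by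
  rw [← h.equiv_C]
  show Polynomial.eval 1 (h.equiv.symm (h.equiv (C a))) = a
  rw [RingEquiv.symm_apply_apply, eval_C]

lemma evalOne_z : h.evalOne z = 1 := by
  refine (congrArg h.evalOne h.equiv_X.symm).trans ?_
  show Polynomial.eval 1 (h.equiv.symm (h.equiv X)) = 1
  rw [RingEquiv.symm_apply_apply, eval_X]

/-- `z ↦ 1` is injective on each degree. -/
lemma evalOne_eq_zero {n : ℕ} {x : B} (hx : x ∈ ℬ n) (h0 : h.evalOne x = 0) : x = 0 := by
  classical
  set p := h.equiv.symm x
  have hdeg : p.natDegree < n + 1 := by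
    refine Nat.lt_succ_iff.mpr (Polynomial.natDegree_le_iff_coeff_eq_zero.mpr fun k hk => ?_)
    exact (h.coeff_mem hx k).2 hk
  have hs : ∑ k ∈ Finset.range (n + 1), p.coeff k = 0 := by
    rw [← h0]
    show _ = Polynomial.eval 1 p
    rw [Polynomial.eval_eq_sum_range' hdeg]
    simp
  have : p = 0 := by
    ext k
    rw [coeff_zero]
    by_cases hk : k ≤ n
    · have := congrArg (fun a => (DirectSum.decompose 𝒜 a (n - k) : A)) hs
      simp only [← GradedRing.proj_apply, map_sum, map_zero] at this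
      rw [Finset.sum_eq_single k] at this
      · rw [GradedRing.proj_apply, DirectSum.decompose_of_mem_same _ ((h.coeff_mem hx k).1 hk)] at this
        exact this
      · intro i hi hik
        rw [GradedRing.proj_apply]
        exact DirectSum.decompose_of_mem_ne _ ((h.coeff_mem hx i).1 (Nat.lt_succ_iff.mp (Finset.mem_range.mp hi)))
          (by have := Finset.mem_range.mp hi; omega)
      · intro hk'
        exact (hk' (Finset.mem_range.mpr (Nat.lt_succ_iff.mpr hk))).elim
    · exact (h.coeff_mem hx k).2 (not_le.mp hk)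
  rw [← h.equiv.apply_symm_apply x]
  show h.equiv p = 0
  rw [this, map_zero]

include h in
/-- The irrelevant ideal is generated by `ι(A₊)` and `z`. -/
lemma irrelevant_le : (ℬ₊).toIdeal ≤ Ideal.map ι (𝒜₊).toIdeal ⊔ Ideal.span {z} := by
  classical
  rw [HomogeneousIdeal.irrelevant_eq_span, Ideal.span_le]
  simp only [Set.iUnion_subset_iff]
  intro n hn x hx
  rw [SetLike.mem_coe, ← h.equiv.apply_symm_apply x,
    h.eval₂_eq_sum_range' _ (Nat.lt_succ_self _)]
  refine Ideal.sum_mem _ fun k _ => ?_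
  rcases Nat.eq_zero_or_pos k with rfl | hk
  · refine Ideal.mem_sup_left (Ideal.mul_mem_right _ _ (Ideal.mem_map_of_mem ι ?_))
    exact HomogeneousIdeal.mem_irrelevant_of_mem _ hn ((h.coeff_mem hx 0).1 (Nat.zero_le n))
  · exact Ideal.mem_sup_right (Ideal.mul_mem_left _ _ (Ideal.pow_mem_of_mem _ (Ideal.mem_span_singleton_self z) k hk))

/-- `z ↦ 0`. -/
def evalZero : B →+* A := Polynomial.constantCoeff.comp h.equiv.symm.toRingHom

lemma evalZero_ι (a : A) : h.evalZero (ι a) = a := by
  rw [← h.equiv_C]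
  show Polynomial.constantCoeff (h.equiv.symm (h.equiv (C a))) = a
  rw [RingEquiv.symm_apply_apply, Polynomial.constantCoeff_apply, coeff_C_zero]

lemma evalZero_z : h.evalZero z = 0 := by
  refine (congrArg h.evalZero h.equiv_X.symm).trans ?_
  show Polynomial.constantCoeff (h.equiv.symm (h.equiv X)) = 0
  rw [RingEquiv.symm_apply_apply, Polynomial.constantCoeff_apply, coeff_X_zero]

lemma evalZero_mem {n : ℕ} {x : B} (hx : x ∈ ℬ n) : h.evalZero x ∈ 𝒜 n := by
  simpa [evalZero] using (h.coeff_mem hx 0).1 (Nat.zero_le n)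

include h in
lemma sub_mem (θ : B →+* A) (hθ : ∀ a, θ (ι a) = a) (hθz : θ z = 0) (x : B) :
    x - ι (θ x) ∈ Ideal.span {z} := by
  have h1 : ((Ideal.Quotient.mk (Ideal.span {z})).comp ι).comp θ = Ideal.Quotient.mk (Ideal.span {z}) := by
    have h2 : (((Ideal.Quotient.mk (Ideal.span {z})).comp ι).comp θ).comp h.equiv.toRingHom =
        (Ideal.Quotient.mk (Ideal.span {z})).comp h.equiv.toRingHom := by
      refine Polynomial.ringHom_ext (fun a => ?_) ?_
      · simp [h.equiv_C, hθ]
      · simp [h.equiv_X, hθz, Ideal.Quotient.eq_zero_iff_mem.mpr (Ideal.mem_span_singleton_self z)]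
    refine RingHom.ext fun b => ?_
    have := RingHom.congr_fun h2 (h.equiv.symm b)
    simpa using this
  rw [← Ideal.Quotient.eq]
  exact (RingHom.congr_fun h1 x).symm

/-- A map `B_(z) → A` sending `x / z^k` to `x|_{z=1}` is bijective. -/
lemma bijective_away (θ : Away ℬ z →+* A)
    (hθ : ∀ (q : Away ℬ z) (k : ℕ) (x : B), x ∈ ℬ k →
      q.val = Localization.mk x (⟨z ^ k, k, rfl⟩ : Submonoid.powers z) → θ q = h.evalOne x) :
    Function.Bijective θ := by
  classical
  refine ⟨(injective_iff_map_eq_zero θ).mpr fun q hq => ?_, fun a => ?_⟩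
  · obtain ⟨n, x, hx, rfl⟩ := q.mk_surjective ℬ h.deg_z
    have hx' : x ∈ ℬ n := by simpa using hx
    have := h.evalOne_eq_zero hx' ((hθ _ n x hx' (Away.val_mk _ _ _ _ _)).symm.trans hq)
    subst this
    apply val_injective
    rw [Away.val_mk, HomogeneousLocalization.val_zero, Localization.mk_zero]
  · suffices hh : ∀ (i : ℕ) (a : 𝒜 i), ∃ q, θ q = (a : A) by
      induction a using DirectSum.Decomposition.inductionOn 𝒜 with
      | zero => exact ⟨0, map_zero θ⟩
      | @homogeneous i m => exact hh i m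
      | add m m' hm hm' =>
        obtain ⟨q, hq⟩ := hm
        obtain ⟨q', hq'⟩ := hm'
        exact ⟨q + q', by rw [map_add, hq, hq']⟩
    intro i a
    have ha : ι (a : A) ∈ ℬ (i • 1) := by simpa using h.graded a.2
    refine ⟨Away.mk ℬ h.deg_z i (ι (a : A)) ha, ?_⟩
    rw [hθ _ i (ι (a : A)) (h.graded a.2) (Away.val_mk _ _ _ _ _), h.evalOne_ι]

end IsPolyRing

end Groth.Agent.ProjQX
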