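import Groth.Agent.ProjQX.Ring

/-!
`Proj(u)` on its open of definition `G(u)`.
-/

universe u

open CategoryTheory CategoryTheory.Limits AlgebraicGeometry TopologicalSpace Opposite
open scoped HomogeneousIdeal

noncomputable section

namespace Groth.Agent.ProjQX

set_option backward.isDefEq.respectTransparency false
set_option backward.isDefEq.respectTransparency.types false

variable {S S' P P' : Scheme.{u}} {g : S' ⟶ S} {𝒮 : RelProj.QCGrAlg S} {𝒮' : RelProj.QCGrAlg S'}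

/-- `D` is basic in `U`. -/
def IsBasic {X : Scheme.{u}} (U D : X.Opens) : Prop := ∃ r : Γ(X, U), D = X.basicOpen r

lemma IsBasic.le {X : Scheme.{u}} {U D : X.Opens} (h : IsBasic U D) : D ≤ U := by
  obtain ⟨r, rfl⟩ := h; exact X.basicOpen_le r

lemma IsBasic.trans {X : Scheme.{u}} {U D E : X.Opens} (hU : IsAffineOpen U) (h : IsBasic U D)
    (h' : IsBasic D E) : IsBasic U E := by
  obtain ⟨r, rfl⟩ := h
  obtain ⟨a, rfl⟩ := h'
  obtain ⟨f, hf⟩ := hU.basicOpen_basicOpen_is_basicOpen r a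
  exact ⟨f, hf.symm⟩

lemma exists_common {X : Scheme.{u}} {U V W : X.Opens} (hU : IsAffineOpen U) (hV : IsAffineOpen V) {x : X}
    (hxU : x ∈ U) (hxV : x ∈ V) (hxW : x ∈ W) :
    ∃ (D : X.Opens) (_ : IsAffineOpen D), IsBasic U D ∧ IsBasic V D ∧ D ≤ W ∧ x ∈ D := by
  obtain ⟨r, r', e, hr⟩ := exists_basicOpen_le_affine_inter hU hV x ⟨hxU, hxV⟩
  obtain ⟨a, ha, hxa⟩ := (hU.basicOpen r).exists_basicOpen_le (V := W) ⟨x, hxW⟩ hr
  exact ⟨_, (hU.basicOpen r).basicOpen a, IsBasic.trans hU ⟨r, rfl⟩ ⟨a, rfl⟩,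
    IsBasic.trans hV ⟨r', e⟩ ⟨a, rfl⟩, ha, hxa⟩

lemma irr_res {X : Scheme.{u}} (𝒯 : RelProj.QCGrAlg X) {U D : X.Opens} (hU : IsAffineOpen U)
    (hD : IsAffineOpen D) (h : IsBasic U D) : (𝒯.deg D hD)₊ ≤ ((𝒯.deg U hU)₊).map (𝒯.res hU hD h.le) := by
  obtain ⟨r, rfl⟩ := h
  exact 𝒯.irrelevant_le_map U hU r

section chart

variable {p : P ⟶ S}
  {chart : ∀ (U : S.Opens) (hU : IsAffineOpen U), (((p ⁻¹ᵁ U : P.Opens) : Scheme.{u}) ≅ Proj (𝒮.deg U hU))}
  (hP : RelProj.IsRelProj 𝒮 p chart)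
include hP

lemma map_emb {U D : S.Opens} (hU : IsAffineOpen U) (hD : IsAffineOpen D) (h : IsBasic U D) :
    Proj.map (𝒮.res hU hD h.le) (irr_res 𝒮 hU hD h) ≫ RelProj.emb p chart U hU = RelProj.emb p chart D hD := by
  obtain ⟨r, rfl⟩ := h
  exact RelProj.map_res_emb hP U hU r

lemma emb_over (U : S.Opens) (hU : IsAffineOpen U) :
    RelProj.emb p chart U hU ≫ p = Proj.toSpecZero (𝒮.deg U hU) ≫ Spec.map (𝒮.strZero U hU) ≫ hU.fromSpec := by
  unfold RelProj.emb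
  rw [Category.assoc, ← hP.chart_over U hU, Iso.inv_hom_id_assoc]

omit hP in
lemma mem_opensRange_emb {U : S.Opens} (hU : IsAffineOpen U) {x : P} :
    x ∈ (RelProj.emb p chart U hU).opensRange ↔ p x ∈ U := by
  unfold RelProj.emb
  rw [Scheme.Hom.opensRange_comp_of_isIso, Scheme.Opens.opensRange_ι]
  exact Iff.rfl

end chart

variable (u : RelProj.QGrHom g 𝒮 𝒮')

lemma comm_res {U D : S.Opens} {U' D' : S'.Opens} (hU : IsAffineOpen U) (hD : IsAffineOpen D)
    (hU' : IsAffineOpen U') (hD' : IsAffineOpen D') (i : D ≤ U) (i' : D' ≤ U') (hle : U' ≤ g ⁻¹ᵁ U)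
    (hle' : D' ≤ g ⁻¹ᵁ D) (a : 𝒮.presheaf.obj (op U)) :
    u.gradedAt D hD D' hD' hle' (𝒮.res hU hD i a) = 𝒮'.res hU' hD' i' (u.gradedAt U hU U' hU' hle a) := by
  show (u.appLE D D' hle').hom ((𝒮.presheaf.map (homOfLE i).op).hom a) =
    (𝒮'.presheaf.map (homOfLE i').op).hom ((u.appLE U U' hle).hom a)
  rw [← CommRingCat.comp_apply, ← CommRingCat.comp_apply, u.toQHom.map_appLE, u.toQHom.appLE_map]

/-- An index of a standard chart of `G(u)`. -/
structure Idx (u : RelProj.QGrHom g 𝒮 𝒮') : Type u where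
  /-- the open downstairs -/
  U : S.Opens
  hU : IsAffineOpen U
  /-- the open upstairs -/
  U' : S'.Opens
  hU' : IsAffineOpen U'
  hle : U' ≤ g ⁻¹ᵁ U
  /-- the degree -/
  d : ℕ
  hd : 0 < d
  /-- the element -/
  f : 𝒮.presheaf.obj (op U)
  hf : f ∈ 𝒮.deg U hU d

variable {u}

/-- The graded map of an index. -/
abbrev Idx.grad (i : Idx u) : 𝒮.deg i.U i.hU →+*ᵍ 𝒮'.deg i.U' i.hU' :=
  u.gradedAt i.U i.hU i.U' i.hU' i.hle

/-- The source of a standard chart. -/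
abbrev Idx.src (i : Idx u) : Scheme.{u} :=
  Spec (CommRingCat.of (HomogeneousLocalization.Away (𝒮'.deg i.U' i.hU') (i.grad i.f)))

variable (u)
variable {p : P ⟶ S}
  {chart : ∀ (U : S.Opens) (hU : IsAffineOpen U), (((p ⁻¹ᵁ U : P.Opens) : Scheme.{u}) ≅ Proj (𝒮.deg U hU))}
  {p' : P' ⟶ S'}
  {chart' : ∀ (U' : S'.Opens) (hU' : IsAffineOpen U'), (((p' ⁻¹ᵁ U' : P'.Opens) : Scheme.{u}) ≅ Proj (𝒮'.deg U' hU'))}

variable (chart') in
/-- The standard chart of `G(u)`. -/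
def emb' (i : Idx u) : i.src ⟶ P' :=
  RelProj.awayEmb u p' chart' i.U i.hU i.U' i.hU' i.hle i.hd i.f i.hf

instance (i : Idx u) : IsOpenImmersion (emb' u chart' i) := by
  unfold emb' RelProj.awayEmb
  infer_instance

variable (chart) in
/-- The morphism on a standard chart. -/
def tgt (i : Idx u) : i.src ⟶ P :=
  Spec.map (CommRingCat.ofHom (HomogeneousLocalization.Away.map i.grad i.f)) ≫
    Proj.awayι (𝒮.deg i.U i.hU) i.f i.hf i.hd ≫ RelProj.emb p chart i.U i.hU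

lemma range_emb' (i : Idx u) : (emb' u chart' i).opensRange =
    RelProj.emb p' chart' i.U' i.hU' ''ᵁ Proj.basicOpen (𝒮'.deg i.U' i.hU') (i.grad i.f) := by
  show (Proj.awayι _ _ (i.grad.map_mem i.hf) i.hd ≫ RelProj.emb p' chart' i.U' i.hU').opensRange = _
  rw [Scheme.Hom.opensRange_comp, Proj.opensRange_awayι]
  rfl

lemma emb'_mem (i : Idx u) (z : i.src) : emb' u chart' i z ∈ RelProj.domQ u p' chart' := by
  have h := RelProj.range_awayEmb_subset_domQ u p' chart' i.U i.hU i.U' i.hU' i.hle i.hd i.f i.hf ⟨z, rfl⟩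
  rw [Scheme.Opens.range_ι] at h
  exact h

lemma exists_idx {x : P'} (hx : x ∈ RelProj.domQ u p' chart') :
    ∃ i : Idx u, x ∈ (emb' u chart' i).opensRange := by
  obtain ⟨⟨⟨⟨U, hU⟩, ⟨U', hU'⟩⟩, hle⟩, z, hz, rfl⟩ := Opens.mem_iSup.mp hx
  obtain ⟨d, f, hd, hf, hfz⟩ := exists_homogeneous_of_mem_domOpen _ hz
  exact ⟨⟨U, hU, U', hU', hle, d, hd, f, hf⟩, by rw [range_emb']; exact ⟨z, hfz, rfl⟩⟩

variable {u} (hP : RelProj.IsRelProj 𝒮 p chart) (hP' : RelProj.IsRelProj 𝒮' p' chart')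

include hP' in
/-- Over a smaller pair of basic opens, the chart of an index is cut out by a product. -/
lemma exists_sub (i : Idx u) {D : S.Opens} (hD : IsAffineOpen D) {D' : S'.Opens} (hD' : IsAffineOpen D')
    (hB : IsBasic i.U D) (hB' : IsBasic i.U' D') (hle : D' ≤ g ⁻¹ᵁ D) {e : ℕ} (k : 𝒮.presheaf.obj (op D))
    (hk : k ∈ 𝒮.deg D hD e) :
    ∃ (h : 𝒮.res i.hU hD hB.le i.f * k ∈ 𝒮.deg D hD (i.d + e))
      (ρ : (⟨D, hD, D', hD', hle, i.d + e, i.hd.trans_le (Nat.le_add_right _ _), _, h⟩ : Idx u).src ⟶ i.src),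
      ρ ≫ emb' u chart' i =
        emb' u chart' ⟨D, hD, D', hD', hle, i.d + e, i.hd.trans_le (Nat.le_add_right _ _), _, h⟩ ∧
      (RelProj.IsRelProj 𝒮 p chart → ρ ≫ tgt u chart i =
        tgt u chart ⟨D, hD, D', hD', hle, i.d + e, i.hd.trans_le (Nat.le_add_right _ _), _, h⟩) := by
  have h : 𝒮.res i.hU hD hB.le i.f * k ∈ 𝒮.deg D hD (i.d + e) :=
    SetLike.mul_mem_graded ((𝒮.res i.hU hD hB.le).map_mem i.hf) hk
  have hc : ∀ a, u.gradedAt D hD D' hD' hle (𝒮.res i.hU hD hB.le a) =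
      𝒮'.res i.hU' hD' hB'.le (i.grad a) := comm_res u i.hU hD i.hU' hD' hB.le hB'.le i.hle hle
  have e1 := spec_tgtRes i.grad (u.gradedAt D hD D' hD' hle) (𝒮.res i.hU hD hB.le) (𝒮'.res i.hU' hD' hB'.le)
    hc i.hd i.hf hk (irr_res 𝒮' i.hU' hD' hB') h
  have e2 := spec_srcRes (𝒮.res i.hU hD hB.le) i.hd i.hf hk (irr_res 𝒮 i.hU hD hB) h
  have e3 := tgtRes_map i.grad (u.gradedAt D hD D' hD' hle) (𝒮.res i.hU hD hB.le) (𝒮'.res i.hU' hD' hB'.le)
    hc i.hf hk
  refine ⟨h, Spec.map (CommRingCat.ofHom (tgtRes i.grad _ _ _ hc i.hf hk)), ?_, fun hP => ?_⟩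
  · unfold emb' RelProj.awayEmb
    exact ((Category.assoc _ _ _).symm.trans (congrArg (· ≫ RelProj.emb p' chart' i.U' i.hU') e1)).trans
      ((Category.assoc _ _ _).trans (congrArg (_ ≫ ·) (map_emb hP' i.hU' hD' hB')))
  · unfold tgt
    refine (Category.assoc _ _ _).symm.trans ?_
    refine (congrArg (· ≫ Proj.awayι (𝒮.deg i.U i.hU) i.f i.hf i.hd ≫ RelProj.emb p chart i.U i.hU)
      ((Spec.map_comp _ _).symm.trans ((congrArg (fun φ => Spec.map (CommRingCat.ofHom φ)) e3).trans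
        (Spec.map_comp (CommRingCat.ofHom _) (CommRingCat.ofHom _))))).trans ?_
    refine (Category.assoc _ _ _).trans (congrArg (_ ≫ ·) ?_)
    exact ((Category.assoc _ _ _).symm.trans (congrArg (· ≫ RelProj.emb p chart i.U i.hU) e2)).trans
      ((Category.assoc _ _ _).trans (congrArg (_ ≫ ·) (map_emb hP i.hU hD hB)))

include hP' in
/-- A chart inside two given charts. -/
lemma exists_le (i j : Idx u) {x : P'} (hi : x ∈ (emb' u chart' i).opensRange)
    (hj : x ∈ (emb' u chart' j).opensRange) :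
    ∃ (k : Idx u) (ρ₁ : k.src ⟶ i.src) (ρ₂ : k.src ⟶ j.src), x ∈ (emb' u chart' k).opensRange ∧
      ρ₁ ≫ emb' u chart' i = emb' u chart' k ∧ ρ₂ ≫ emb' u chart' j = emb' u chart' k ∧
      (RelProj.IsRelProj 𝒮 p chart → ρ₁ ≫ tgt u chart i = tgt u chart k) ∧
      (RelProj.IsRelProj 𝒮 p chart → ρ₂ ≫ tgt u chart j = tgt u chart k) := by
  rw [range_emb'] at hi hj
  obtain ⟨zi, hzi, hix⟩ := hi
  obtain ⟨zj, hzj, hjx⟩ := hj
  have hiU : p' x ∈ i.U' := (mem_opensRange_emb i.hU').mp ⟨zi, hix⟩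
  have hjU : p' x ∈ j.U' := (mem_opensRange_emb j.hU').mp ⟨zj, hjx⟩
  obtain ⟨D, hD, hBi, hBj, -, hgD⟩ := exists_common (W := ⊤) i.hU j.hU (i.hle hiU) (j.hle hjU) trivial
  obtain ⟨D', hD', hBi', hBj', hle, hxD'⟩ := exists_common (W := g ⁻¹ᵁ D) i.hU' j.hU' hiU hjU hgD
  obtain ⟨w, hw⟩ : x ∈ (RelProj.emb p' chart' D' hD').opensRange := (mem_opensRange_emb hD').mpr hxD'
  have hci := comm_res u i.hU hD i.hU' hD' hBi.le hBi'.le i.hle hle i.f
  have hcj := comm_res u j.hU hD j.hU' hD' hBj.le hBj'.le j.hle hle j.f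
  have ei : Proj.map (𝒮'.res i.hU' hD' hBi'.le) (irr_res 𝒮' i.hU' hD' hBi') w = zi :=
    (RelProj.emb p' chart' i.U' i.hU').isOpenEmbedding.injective (by
      rw [← Scheme.Hom.comp_apply, map_emb hP' i.hU' hD' hBi', hw]; exact hix.symm)
  have ej : Proj.map (𝒮'.res j.hU' hD' hBj'.le) (irr_res 𝒮' j.hU' hD' hBj') w = zj :=
    (RelProj.emb p' chart' j.U' j.hU').isOpenEmbedding.injective (by
      rw [← Scheme.Hom.comp_apply, map_emb hP' j.hU' hD' hBj', hw]; exact hjx.symm)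
  obtain ⟨h₁, ρ₁, r₁, t₁⟩ := exists_sub hP' (p := p) (chart := chart) i hD hD' hBi hBi' hle
    (𝒮.res j.hU hD hBj.le j.f) ((𝒮.res j.hU hD hBj.le).map_mem j.hf)
  obtain ⟨h₂, ρ₂, r₂, t₂⟩ := exists_sub hP' (p := p) (chart := chart) j hD hD' hBj hBj' hle
    (𝒮.res i.hU hD hBi.le i.f) ((𝒮.res i.hU hD hBi.le).map_mem i.hf)
  let k : Idx u := ⟨D, hD, D', hD', hle, i.d + j.d, i.hd.trans_le (Nat.le_add_right _ _), _, h₁⟩
  have hk : (⟨D, hD, D', hD', hle, j.d + i.d, j.hd.trans_le (Nat.le_add_right _ _), _, h₂⟩ : Idx u) = k := by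
    simp only [k, add_comm j.d i.d, mul_comm (𝒮.res j.hU hD hBj.le j.f)]
  have hmem : x ∈ (emb' u chart' k).opensRange := by
    rw [range_emb']
    refine ⟨w, ?_, hw⟩
    show u.gradedAt D hD D' hD' hle (_ * _) ∉ (w : ProjectiveSpectrum _).asHomogeneousIdeal
    rw [map_mul, hci, hcj]
    subst ei ej
    exact fun h => ((w : ProjectiveSpectrum _).isPrime.mem_or_mem h).elim hzi hzj
  revert ρ₂ r₂ t₂
  rw [hk]
  exact fun ρ₂ r₂ t₂ => ⟨k, ρ₁, ρ₂, hmem, r₁, r₂, t₁, t₂⟩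

variable (chart') in
/-- A standard chart, into `G(u)`. -/
def embDom (i : Idx u) : i.src ⟶ (RelProj.domQ u p' chart' : Scheme.{u}) :=
  IsOpenImmersion.lift (RelProj.domQ u p' chart').ι (emb' u chart' i)
    (RelProj.range_awayEmb_subset_domQ u p' chart' i.U i.hU i.U' i.hU' i.hle i.hd i.f i.hf)

lemma embDom_ι (i : Idx u) : embDom chart' i ≫ (RelProj.domQ u p' chart').ι = emb' u chart' i :=
  IsOpenImmersion.lift_fac _ _ _

instance (i : Idx u) : IsOpenImmersion (embDom (u := u) chart' i) := by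
  have : IsOpenImmersion (embDom (u := u) chart' i ≫ (RelProj.domQ u p' chart').ι) := by
    rw [embDom_ι]; infer_instance
  exact IsOpenImmersion.of_comp _ (RelProj.domQ u p' chart').ι

variable (u chart') in
/-- The cover of `G(u)`. -/
def domCover : (RelProj.domQ u p' chart' : Scheme.{u}).OpenCover where
  I₀ := Idx u
  X i := i.src
  f i := embDom chart' i
  mem₀ := by
    rw [Scheme.ofArrows_mem_precoverage_iff]
    refine ⟨fun z => ?_, fun i => inferInstance⟩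
    obtain ⟨i, w, hw⟩ := exists_idx u z.2
    refine ⟨i, w, (RelProj.domQ u p' chart').ι.isOpenEmbedding.injective ?_⟩
    rw [← Scheme.Hom.comp_apply, embDom_ι]
    exact hw

include hP hP' in
lemma compat (i j : Idx u) :
    pullback.fst (embDom chart' i) (embDom chart' j) ≫ tgt u chart i =
      pullback.snd (embDom chart' i) (embDom chart' j) ≫ tgt u chart j := by
  refine Scheme.hom_ext_of_forall _ _ fun z => ?_
  let x : P' := (pullback.fst (embDom chart' i) (embDom chart' j) ≫ emb' u chart' i) z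
  have hi : x ∈ (emb' u chart' i).opensRange := ⟨pullback.fst (embDom chart' i) (embDom chart' j) z, rfl⟩
  have hcond : pullback.fst (embDom chart' i) (embDom chart' j) ≫ emb' u chart' i =
      pullback.snd (embDom chart' i) (embDom chart' j) ≫ emb' u chart' j := by
    rw [← embDom_ι i, ← embDom_ι j, pullback.condition_assoc]
  have hj : x ∈ (emb' u chart' j).opensRange :=
    ⟨pullback.snd (embDom chart' i) (embDom chart' j) z, by simp [x, hcond]⟩
  obtain ⟨k, ρ₁, ρ₂, ⟨w, hw⟩, r₁, r₂, t₁, t₂⟩ := exists_le hP' (p := p) (chart := chart) i j hi hj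
  let W := (pullback.fst (embDom chart' i) (embDom chart' j) ≫ emb' u chart' i) ⁻¹ᵁ (emb' u chart' k).opensRange
  refine ⟨W, ⟨w, hw⟩, ?_⟩
  let l := IsOpenImmersion.lift (emb' u chart' k)
    (W.ι ≫ pullback.fst (embDom chart' i) (embDom chart' j) ≫ emb' u chart' i)
    (by rintro _ ⟨y, rfl⟩; exact y.2)
  have e₁ : W.ι ≫ pullback.fst (embDom chart' i) (embDom chart' j) = l ≫ ρ₁ := by
    rw [← cancel_mono (emb' u chart' i), Category.assoc, Category.assoc, r₁, IsOpenImmersion.lift_fac]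
  have e₂ : W.ι ≫ pullback.snd (embDom chart' i) (embDom chart' j) = l ≫ ρ₂ := by
    rw [← cancel_mono (emb' u chart' j), Category.assoc, Category.assoc, r₂, IsOpenImmersion.lift_fac, hcond]
  rw [reassoc_of% e₁, reassoc_of% e₂, t₁ hP, t₂ hP]

variable (u chart chart') in
lemma isProjQMapOn_domQ_iff (v : (RelProj.domQ u p' chart' : Scheme.{u}) ⟶ P) :
    RelProj.IsProjQMapOn u p chart p' chart' (RelProj.domQ u p' chart') v ↔
      ∀ i : Idx u, embDom chart' i ≫ v = tgt u chart i :=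
  ⟨fun h i => h i.U i.hU i.U' i.hU' i.hle i.d i.hd i.f i.hf _,
    fun h U hU U' hU' hle d hd f hf _ => h ⟨U, hU, U', hU', hle, d, hd, f, hf⟩⟩

include hP hP' in
/-- Existence and uniqueness of `Proj(u)` on `G(u)`. -/
theorem existsUnique_map :
    ∃! v : (RelProj.domQ u p' chart' : Scheme.{u}) ⟶ P,
      RelProj.IsProjQMapOn u p chart p' chart' (RelProj.domQ u p' chart') v := by
  refine ⟨(domCover u chart').glueMorphisms (tgt u chart) (compat hP hP'), ?_, fun v hv => ?_⟩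
  · exact (isProjQMapOn_domQ_iff u chart chart' _).mpr fun i =>
      (domCover u chart').ι_glueMorphisms _ (compat hP hP') i
  · refine (domCover u chart').hom_ext _ _ fun i => ?_
    rw [(domCover u chart').ι_glueMorphisms]
    exact (isProjQMapOn_domQ_iff u chart chart' v).mp hv i

lemma fromZero_map {A B : Type u} [CommRing A] [CommRing B] {σA σB : Type u} [SetLike σA A]
    [AddSubgroupClass σA A] [SetLike σB B] [AddSubgroupClass σB B] {𝒜 : ℕ → σA} [GradedRing 𝒜]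
    {ℬ : ℕ → σB} [GradedRing ℬ] (φ : 𝒜 →+*ᵍ ℬ) (f : A) (a : 𝒜 0) :
    HomogeneousLocalization.Away.map φ f (HomogeneousLocalization.fromZeroRingHom 𝒜 _ a) =
      HomogeneousLocalization.fromZeroRingHom ℬ _ ⟨φ a, φ.map_mem a.2⟩ := by
  apply HomogeneousLocalization.val_injective
  simp only [HomogeneousLocalization.Away.map, HomogeneousLocalization.fromZeroRingHom, RingHom.coe_mk,
    MonoidHom.coe_mk, OneHom.coe_mk, HomogeneousLocalization.map_mk, HomogeneousLocalization.val_mk]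
  exact congr_arg₂ Localization.mk rfl (Subtype.ext (map_one φ))

include hP hP' in
/-- `Proj(u)` lies over `g`. -/
theorem comp_eq {v : (RelProj.domQ u p' chart' : Scheme.{u}) ⟶ P}
    (hv : RelProj.IsProjQMapOn u p chart p' chart' (RelProj.domQ u p' chart') v) :
    v ≫ p = (RelProj.domQ u p' chart').ι ≫ p' ≫ g := by
  refine (domCover u chart').hom_ext _ _ fun (i : Idx u) => ?_
  show embDom chart' i ≫ v ≫ p = embDom chart' i ≫ _
  rw [reassoc_of% ((isProjQMapOn_domQ_iff u chart chart' v).mp hv i), ← Category.assoc (embDom chart' i),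
    embDom_ι]
  show (Spec.map _ ≫ Proj.awayι (𝒮.deg i.U i.hU) i.f i.hf i.hd ≫ RelProj.emb p chart i.U i.hU) ≫ p =
    (Proj.awayι (𝒮'.deg i.U' i.hU') _ (i.grad.map_mem i.hf) i.hd ≫ RelProj.emb p' chart' i.U' i.hU') ≫ p' ≫ g
  simp only [Category.assoc]
  rw [emb_over hP, reassoc_of% (emb_over hP' i.U' i.hU'), Proj.awayι_toSpecZero_assoc,
    Proj.awayι_toSpecZero_assoc, ← IsAffineOpen.SpecMap_appLE_fromSpec g i.hU i.hU' i.hle,
    ← Spec.map_comp_assoc, ← Spec.map_comp_assoc, ← Spec.map_comp_assoc, ← Spec.map_comp_assoc]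
  refine congrArg (fun φ => Spec.map φ ≫ i.hU.fromSpec) (CommRingCat.hom_ext (RingHom.ext fun r => ?_))
  refine (fromZero_map i.grad i.f _).trans ?_
  refine congrArg _ (Subtype.ext ?_)
  exact ConcreteCategory.congr_hom (u.toQHom.str_appLE i.U i.U' i.hle) r

include hP hP' in
/-- A point of `G(u)` lying in a chart, sent into `D₊(f)`, misses `u f`. -/
theorem mem_basicOpen_of_map {v : (RelProj.domQ u p' chart' : Scheme.{u}) ⟶ P}
    (hv : RelProj.IsProjQMapOn u p chart p' chart' (RelProj.domQ u p' chart') v)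
    {U : S.Opens} {hU : IsAffineOpen U} {U' : S'.Opens} {hU' : IsAffineOpen U'} (hle : U' ≤ g ⁻¹ᵁ U)
    {d : ℕ} (hd : 0 < d) {f : 𝒮.presheaf.obj (op U)} (hf : f ∈ 𝒮.deg U hU d)
    (x : (RelProj.domQ u p' chart' : Scheme.{u})) {z : Proj (𝒮'.deg U' hU')}
    (hz : RelProj.emb p' chart' U' hU' z = x.1) (hz' : z ∈ RelCone.domOpen (u.gradedAt U hU U' hU' hle)) :
    v x ∈ RelProj.emb p chart U hU ''ᵁ Proj.basicOpen (𝒮.deg U hU) f ↔
      z ∈ Proj.basicOpen (𝒮'.deg U' hU') (u.gradedAt U hU U' hU' hle f) := by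
  obtain ⟨e, k, he, hk, hkz⟩ := exists_homogeneous_of_mem_domOpen _ hz'
  let i : Idx u := ⟨U, hU, U', hU', hle, e, he, k, hk⟩
  obtain ⟨w, hw⟩ : z ∈ (Proj.awayι (𝒮'.deg U' hU') _ (i.grad.map_mem hk) he).opensRange := by
    rw [Proj.opensRange_awayι]; exact hkz
  have hx : embDom chart' i w = x := by
    apply (RelProj.domQ u p' chart').ι.isOpenEmbedding.injective
    rw [← Scheme.Hom.comp_apply, embDom_ι]
    show RelProj.emb p' chart' U' hU' (Proj.awayι (𝒮'.deg U' hU') _ _ he w) = _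
    rw [hw]
    exact hz
  rw [← hx, ← Scheme.Hom.comp_apply, (isProjQMapOn_domQ_iff u chart chart' v).mp hv i]
  show RelProj.emb p chart U hU ((Spec.map _ ≫ Proj.awayι (𝒮.deg U hU) k hk he) w) ∈ _ ↔ _
  refine Iff.trans (Iff.trans ?_ (awayι_preimage_map i.grad hk he hf hd w))
    (iff_of_eq (congrArg (· ∈ Proj.basicOpen (𝒮'.deg U' hU') (u.gradedAt U hU U' hU' hle f)) hw))
  exact ⟨fun ⟨y, hy, e⟩ => (RelProj.emb p chart U hU).isOpenEmbedding.injective e ▸ hy, fun h => ⟨_, h, rfl⟩⟩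

end Groth.Agent.ProjQX
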