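import Groth.Prelude.Def_RelProj4

/-!
Ring-level lemmas on standard charts of a morphism of homogeneous spectra.
-/

universe u

open CategoryTheory AlgebraicGeometry TopologicalSpace Opposite HomogeneousLocalization
open scoped HomogeneousIdeal

noncomputable section

namespace Groth.Agent.ProjQX

variable {A A' B B' : Type u} [CommRing A] [CommRing A'] [CommRing B] [CommRing B']
  {σA σA' σB σB' : Type u} [SetLike σA A] [AddSubgroupClass σA A] [SetLike σA' A'] [AddSubgroupClass σA' A']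
  [SetLike σB B] [AddSubgroupClass σB B] [SetLike σB' B'] [AddSubgroupClass σB' B']
  {𝒜 : ℕ → σA} [GradedRing 𝒜] {𝒜' : ℕ → σA'} [GradedRing 𝒜'] {ℬ : ℕ → σB} [GradedRing ℬ]
  {ℬ' : ℕ → σB'} [GradedRing ℬ']

section square

variable (φ : 𝒜 →+*ᵍ ℬ) (ψ : 𝒜' →+*ᵍ ℬ') (α : 𝒜 →+*ᵍ 𝒜') (β : ℬ →+*ᵍ ℬ')
  {d e : ℕ} {f : A} {k : A'}

/-- The restriction of standard charts in the source. -/
def srcRes (hf : f ∈ 𝒜 d) (hk : k ∈ 𝒜' e) : Away 𝒜 f →+* Away 𝒜' (α f * k) :=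
  (awayMap 𝒜' hk rfl).comp (Away.map α f)

variable (hc : ∀ a, ψ (α a) = β (φ a))

include hc in
lemma map_mul_eq : ψ (α f * k) = β (φ f) * ψ k := (map_mul ψ _ _).trans (congrArg (· * ψ k) (hc f))

/-- The restriction of standard charts in the target. -/
def tgtRes (hf : f ∈ 𝒜 d) (hk : k ∈ 𝒜' e) : Away ℬ (φ f) →+* Away ℬ' (ψ (α f * k)) :=
  (awayMap ℬ' (ψ.map_mem hk) (map_mul_eq φ ψ α β hc)).comp (Away.map β (φ f))

lemma tgtRes_map (hf : f ∈ 𝒜 d) (hk : k ∈ 𝒜' e) :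
    (tgtRes φ ψ α β hc hf hk).comp (Away.map φ f) = (Away.map ψ (α f * k)).comp (srcRes α hf hk) := by
  refine RingHom.ext fun z => ?_
  obtain ⟨n, a, ha, rfl⟩ := z.mk_surjective 𝒜 hf
  apply val_injective
  simp only [tgtRes, srcRes, RingHom.comp_apply, Away.map_mk, awayMap_mk, Away.val_mk]
  refine congr_arg₂ Localization.mk ?_ rfl
  show β (φ a) * ψ k ^ n = ψ (α a * k ^ n)
  rw [map_mul, map_pow, hc]

lemma spec_srcRes (hd : 0 < d) (hf : f ∈ 𝒜 d) (hk : k ∈ 𝒜' e) (hα : 𝒜'₊ ≤ (𝒜₊).map α)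
    (hfk : α f * k ∈ 𝒜' (d + e)) :
    Spec.map (CommRingCat.ofHom (srcRes α hf hk)) ≫ Proj.awayι 𝒜 f hf hd =
      Proj.awayι 𝒜' (α f * k) hfk (hd.trans_le (d.le_add_right e)) ≫ Proj.map α hα := by
  rw [srcRes, CommRingCat.ofHom_comp, Spec.map_comp, Category.assoc, ← Proj.awayι_comp_map α hα hd f hf,
    Proj.SpecMap_awayMap_awayι_assoc]

lemma spec_tgtRes (hd : 0 < d) (hf : f ∈ 𝒜 d) (hk : k ∈ 𝒜' e) (hβ : ℬ'₊ ≤ (ℬ₊).map β)
    (hfk : α f * k ∈ 𝒜' (d + e)) :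
    Spec.map (CommRingCat.ofHom (tgtRes φ ψ α β hc hf hk)) ≫ Proj.awayι ℬ (φ f) (φ.map_mem hf) hd =
      Proj.awayι ℬ' (ψ (α f * k)) (ψ.map_mem hfk) (hd.trans_le (d.le_add_right e)) ≫ Proj.map β hβ := by
  rw [tgtRes, CommRingCat.ofHom_comp, Spec.map_comp, Category.assoc,
    ← Proj.awayι_comp_map β hβ hd (φ f) (φ.map_mem hf), Proj.SpecMap_awayMap_awayι_assoc]

end square

/-- Pulling back the localisation element. -/
lemma map_isLocalizationElem (φ : 𝒜 →+*ᵍ ℬ) {d e : ℕ} {f g : A} (hf : f ∈ 𝒜 d) (hg : g ∈ 𝒜 e) :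
    Away.map φ f (Away.isLocalizationElem hf hg) =
      Away.isLocalizationElem (φ.map_mem hf) (φ.map_mem hg) := by
  apply val_injective
  simp [Away.isLocalizationElem, map_pow]

/-- The image of `D(φ f)` under the morphism of standard charts avoids `V(g)` only when `φ g` is non-zero. -/
lemma awayι_preimage_map (φ : 𝒜 →+*ᵍ ℬ) {d e : ℕ} {f g : A} (hf : f ∈ 𝒜 d) (hd : 0 < d) (hg : g ∈ 𝒜 e)
    (he : 0 < e) (z : Spec (CommRingCat.of (Away ℬ (φ f)))) :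
    (Spec.map (CommRingCat.ofHom (Away.map φ f)) ≫ Proj.awayι 𝒜 f hf hd) z ∈ Proj.basicOpen 𝒜 g ↔
      Proj.awayι ℬ (φ f) (φ.map_mem hf) hd z ∈ Proj.basicOpen ℬ (φ g) := by
  show Spec.map (CommRingCat.ofHom (Away.map φ f)) z ∈ Proj.awayι 𝒜 f hf hd ⁻¹ᵁ Proj.basicOpen 𝒜 g ↔
    z ∈ Proj.awayι ℬ (φ f) (φ.map_mem hf) hd ⁻¹ᵁ Proj.basicOpen ℬ (φ g)
  refine (SetLike.ext_iff.1 (Proj.awayι_preimage_basicOpen 𝒜 hf hd hg he) _).trans
    (Iff.trans ?_ (SetLike.ext_iff.1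
      (Proj.awayι_preimage_basicOpen ℬ (φ.map_mem hf) hd (φ.map_mem hg) he) z).symm)
  rw [← map_isLocalizationElem φ hf hg]
  exact Iff.rfl

/-- A point of the open of definition misses a homogeneous image. -/
lemma exists_homogeneous_of_mem_domOpen (φ : 𝒜 →+*ᵍ ℬ) {z : Proj ℬ} (hz : z ∈ RelCone.domOpen φ) :
    ∃ (d : ℕ) (f : A), 0 < d ∧ f ∈ 𝒜 d ∧ z ∈ Proj.basicOpen ℬ (φ f) := by
  classical
  obtain ⟨a, ha, haz⟩ := (RelCone.mem_domOpen φ z).mp hz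
  rw [← DirectSum.sum_support_decompose 𝒜 a, map_sum] at haz
  obtain ⟨i, hi, hiz⟩ : ∃ i ∈ (DirectSum.decompose 𝒜 a).support,
      φ (DirectSum.decompose 𝒜 a i : A) ∉ z.asHomogeneousIdeal := by
    by_contra! h
    exact haz (Ideal.sum_mem _ h)
  refine ⟨i, _, Nat.pos_of_ne_zero fun h0 => ?_, SetLike.coe_mem _, hiz⟩
  subst h0
  have h00 : (DirectSum.decompose 𝒜 a 0 : A) = 0 := ha
  rw [h00, map_zero] at hiz
  exact hiz (Ideal.zero_mem _)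

lemma mem_domOpen_of_homogeneous (φ : 𝒜 →+*ᵍ ℬ) {d : ℕ} {f : A} (hd : 0 < d) (hf : f ∈ 𝒜 d) :
    Proj.basicOpen ℬ (φ f) ≤ RelCone.domOpen φ := fun _ hz =>
  (RelCone.mem_domOpen φ _).mpr ⟨f, HomogeneousIdeal.mem_irrelevant_of_mem _ hd hf, hz⟩

/-- If the irrelevant ideal downstairs is generated by the image from above, the open of definition shrinks
accordingly. -/
lemma mem_domOpen_map (φ : 𝒜 →+*ᵍ ℬ) (ψ : 𝒜' →+*ᵍ ℬ') (α : 𝒜 →+*ᵍ 𝒜') (β : ℬ →+*ᵍ ℬ')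
    (hα : 𝒜'₊ ≤ (𝒜₊).map α) (hβ : ℬ'₊ ≤ (ℬ₊).map β) (hc : ∀ a, ψ (α a) = β (φ a)) {y : Proj ℬ'}
    (hy : y ∈ RelCone.domOpen ψ) : Proj.map β hβ y ∈ RelCone.domOpen φ := by
  by_contra hne
  obtain ⟨a, ha, hay⟩ := (RelCone.mem_domOpen ψ y).mp hy
  refine hay ?_
  have h1 : (𝒜₊).toIdeal.map α ≤ Ideal.comap ψ.toRingHom y.asHomogeneousIdeal.toIdeal :=
    Ideal.map_le_iff_le_comap.mpr fun b hb => by
      show ψ (α b) ∈ y.asHomogeneousIdeal.toIdeal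
      rw [hc]
      by_contra hb'
      exact hne ((RelCone.mem_domOpen φ _).mpr ⟨b, hb, hb'⟩)
  exact h1 (hα ha)

end Groth.Agent.ProjQX
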