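import Groth.Agent.ProjQX.SameBase

/-!
(TN)-surjective and (TN)-bijective homomorphisms.
-/

universe u

open AlgebraicGeometry HomogeneousLocalization
open scoped HomogeneousIdeal

noncomputable section

namespace Groth.Agent.ProjQX

variable {A B σA σB : Type u} [CommRing A] [CommRing B] [SetLike σA A] [AddSubgroupClass σA A]
  [SetLike σB B] [AddSubgroupClass σB B] {𝒜 : ℕ → σA} [GradedRing 𝒜] {ℬ : ℕ → σB} [GradedRing ℬ]
  (φ : 𝒜 →+*ᵍ ℬ) {n : ℕ}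

lemma domOpen_eq_top_of_tnSurj (h : ∀ k, n ≤ k → ∀ y ∈ ℬ k, ∃ x ∈ 𝒜 k, φ x = y) :
    RelCone.domOpen φ = ⊤ := by
  refine top_le_iff.mp fun z _ => ?_
  obtain ⟨k, b, hk, hb, hbz⟩ := exists_homogeneous ℬ z
  have hm : b ^ (n + 1) ∈ ℬ ((n + 1) * k) := by simpa using SetLike.pow_mem_graded (n + 1) hb
  obtain ⟨a, ha, hab⟩ := h ((n + 1) * k)
    ((Nat.le_succ n).trans (Nat.le_mul_of_pos_right (n + 1) hk)) _ hm
  refine mem_domOpen_of_homogeneous φ (Nat.mul_pos (Nat.succ_pos n) hk) ha ?_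
  show φ a ∉ (z : ProjectiveSpectrum ℬ).asHomogeneousIdeal
  rw [hab]
  exact fun hh => hbz ((z : ProjectiveSpectrum ℬ).isPrime.mem_of_pow_mem _ hh)

lemma awayMap_surj_of_tnSurj (h : ∀ k, n ≤ k → ∀ y ∈ ℬ k, ∃ x ∈ 𝒜 k, φ x = y) {d : ℕ} {f : A}
    (hd : 0 < d) (hf : f ∈ 𝒜 d) : Function.Surjective (Away.map φ f) := by
  intro z
  obtain ⟨m, b, hb, rfl⟩ := z.mk_surjective ℬ (φ.map_mem hf)
  have hm : b * φ f ^ n ∈ ℬ ((m + n) • d) := by
    rw [add_smul]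
    exact SetLike.mul_mem_graded hb (SetLike.pow_mem_graded n (φ.map_mem hf))
  obtain ⟨a, ha, hab⟩ := h ((m + n) • d)
    ((Nat.le_add_left n m).trans (Nat.le_mul_of_pos_right _ hd)) _ hm
  refine ⟨Away.mk 𝒜 hf (m + n) a ha, ?_⟩
  rw [Away.map_mk]
  apply val_injective
  rw [Away.val_mk, Away.val_mk, Localization.mk_eq_mk_iff, Localization.r_iff_exists]
  refine ⟨1, ?_⟩
  show 1 * (φ f ^ m * φ a) = 1 * (φ f ^ (m + n) * b)
  rw [hab, pow_add]
  ring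

lemma awayMap_inj_of_tnInj (h : ∀ k, n ≤ k → ∀ x ∈ 𝒜 k, φ x = 0 → x = 0) {d : ℕ} {f : A}
    (hd : 0 < d) (hf : f ∈ 𝒜 d) : Function.Injective (Away.map φ f) := by
  rw [injective_iff_map_eq_zero]
  intro z hz
  obtain ⟨m, a, ha, rfl⟩ := z.mk_surjective 𝒜 hf
  rw [Away.map_mk] at hz
  have h0 := congrArg HomogeneousLocalization.val hz
  rw [Away.val_mk, HomogeneousLocalization.val_zero, Localization.mk_eq_mk',
    IsLocalization.mk'_eq_zero_iff] at h0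
  obtain ⟨⟨_, k, rfl⟩, hk⟩ := h0
  have hk' : φ f ^ k * φ a = 0 := hk
  have ha' : f ^ (k + n) * a ∈ 𝒜 ((k + n + m) • d) := by
    rw [add_smul _ m]
    exact SetLike.mul_mem_graded (SetLike.pow_mem_graded _ hf) ha
  have h1 : f ^ (k + n) * a = 0 := h _
    (((Nat.le_add_left n k).trans (Nat.le_add_right _ m)).trans (Nat.le_mul_of_pos_right _ hd)) _ ha' (by
      rw [map_mul, map_pow, pow_add, mul_comm (φ f ^ k), mul_assoc, hk', mul_zero])
  apply val_injective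
  rw [Away.val_mk, HomogeneousLocalization.val_zero, Localization.mk_eq_mk', IsLocalization.mk'_eq_zero_iff]
  exact ⟨⟨_, k + n, rfl⟩, h1⟩

end Groth.Agent.ProjQX
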